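import Mathlib

/-!
# Algebraic core of Chevalley's semicontinuity theorem (helper18)

For a finite type algebra `R → A` and a prime `P` of `A` over `p`, with `e = trdeg κ(P)/κ(p)` and
`r` the height of `P` in the fibre over `p`, we construct `e + r` elements of `A` such that
`R[T₁, …, T_{e+r}] → A` is quasi-finite at `P` (Stacks 02FZ / EGA IV 13.1.3 style).
-/

set_option autoImplicit false
set_option linter.style.haveILetI false
set_option linter.unusedVariables false
set_option linter.deprecated false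

open scoped TensorProduct

namespace Groth.Agent.Lib.Helper18.Chev

universe u

section above

variable {R A : Type*} [CommRing R] [CommRing A] [Algebra R A]

theorem mk_aeval {ι : Type*} (a : ι → A) (P : Ideal A) (p : Ideal R) [P.LiesOver p]
    (g : MvPolynomial ι R) :
    Ideal.Quotient.mk P (MvPolynomial.aeval a g) =
      MvPolynomial.aeval (fun i => Ideal.Quotient.mk P (a i))
        (MvPolynomial.map (Ideal.Quotient.mk p) g) := by
  induction g using MvPolynomial.induction_on with
  | C r =>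
    simp only [MvPolynomial.aeval_C, MvPolynomial.map_C]
    rfl
  | add f g hf hg => simp only [map_add, hf, hg]
  | mul_X f i hf => simp only [map_mul, hf, MvPolynomial.aeval_X, MvPolynomial.map_X]

/-- No prime strictly above `P` has the same contraction, if `A/P` is algebraic over the image. -/
theorem eq_of_le_of_forall_aeval {ι : Type*} (a : ι → A) (P : Ideal A) [P.IsPrime]
    (p : Ideal R) [p.IsPrime] [P.LiesOver p]
    (halg : Algebra.IsAlgebraic
      (Algebra.adjoin (R ⧸ p) (Set.range fun i => Ideal.Quotient.mk P (a i))) (A ⧸ P))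
    (P' : Ideal A) (hle : P ≤ P')
    (h : ∀ g : MvPolynomial ι R, MvPolynomial.aeval a g ∈ P' → MvPolynomial.aeval a g ∈ P) :
    P' = P := by
  by_contra hne
  have hnle : ¬ P' ≤ P := fun h' => hne (le_antisymm h' hle)
  obtain ⟨c, hcP', hcP⟩ := Set.not_subset.1 hnle
  set I : Ideal (A ⧸ P) := P'.map (Ideal.Quotient.mk P) with hI
  have hc0 : Ideal.Quotient.mk P c ≠ 0 := by
    rw [Ne, Ideal.Quotient.eq_zero_iff_mem]; exact hcP
  have hcI : Ideal.Quotient.mk P c ∈ I := Ideal.mem_map_of_mem _ hcP'
  have h1 := Ideal.comap_ne_bot_of_algebraic_mem hc0 hcI (halg.isAlgebraic _)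
  obtain ⟨s, hsI, hs0⟩ := Submodule.exists_mem_ne_zero_of_ne_bot h1
  obtain ⟨sv, hsv⟩ : ∃ sv : A ⧸ P, sv = (s : A ⧸ P) := ⟨_, rfl⟩
  have hs : sv ∈
      Algebra.adjoin (R ⧸ p) (Set.range fun i => Ideal.Quotient.mk P (a i)) := hsv ▸ s.2
  rw [Algebra.adjoin_range_eq_range_aeval] at hs
  obtain ⟨g₀, hg₀⟩ := hs
  rw [hsv] at hg₀
  obtain ⟨g, rfl⟩ :=
    MvPolynomial.map_surjective (Ideal.Quotient.mk p) Ideal.Quotient.mk_surjective g₀
  have h2 : Ideal.Quotient.mk P (MvPolynomial.aeval a g) = (s : A ⧸ P) := by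
    rw [mk_aeval a P p g]; exact hg₀
  have h3 : MvPolynomial.aeval a g ∈ P' := by
    have : Ideal.Quotient.mk P (MvPolynomial.aeval a g) ∈ I := by
      rw [h2]; exact hsI
    rw [hI, Ideal.mem_quotient_iff_mem_sup, sup_eq_left.2 hle] at this
    exact this
  have h4 := h g h3
  rw [← Ideal.Quotient.eq_zero_iff_mem, h2] at h4
  exact hs0 (Subtype.ext h4)

end above

section basis

variable {R A : Type u} [CommRing R] [CommRing A] [Algebra R A]

/-- Lifts of a transcendence basis of `A/P` over `R/p`. -/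
theorem exists_vec_algebraic (P : Ideal A) [P.IsPrime] (p : Ideal R) [p.IsPrime] [P.LiesOver p]
    (e : ℕ) (he : Algebra.trdeg (R ⧸ p) (A ⧸ P) = e) :
    ∃ a : Fin e → A, Algebra.IsAlgebraic
      (Algebra.adjoin (R ⧸ p) (Set.range fun i => Ideal.Quotient.mk P (a i))) (A ⧸ P) := by
  obtain ⟨s, hs⟩ := exists_isTranscendenceBasis (R ⧸ p) (A ⧸ P)
  have hcard : Cardinal.mk s = e := by rw [hs.cardinalMk_eq_trdeg, he]
  have hfin : Finite s := by
    rw [← Cardinal.lt_aleph0_iff_finite, hcard]; exact Cardinal.nat_lt_aleph0 e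
  letI := Fintype.ofFinite s
  have hcard' : Fintype.card s = e := by
    have : ((Fintype.card s : ℕ) : Cardinal) = e := by rw [← Cardinal.mk_fintype, hcard]
    exact_mod_cast this
  let eq : Fin e ≃ s := (Fintype.equivFinOfCardEq hcard').symm
  choose lift hlift using fun y : A ⧸ P => Ideal.Quotient.mk_surjective (I := P) y
  refine ⟨fun i => lift (eq i).1, ?_⟩
  have hrange : (Set.range fun i => Ideal.Quotient.mk P (lift (eq i).1)) =
      Set.range ((↑) : s → A ⧸ P) := by
    ext y
    constructor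
    · rintro ⟨i, rfl⟩
      exact ⟨eq i, (hlift _).symm⟩
    · rintro ⟨z, rfl⟩
      exact ⟨eq.symm z, by simp [hlift]⟩
  rw [hrange]
  exact hs.isAlgebraic

end basis

section below

variable {R A : Type u} [CommRing R] [CommRing A] [Algebra R A] [Algebra.FiniteType R A]

/-- Elements of `P` cutting out `P` as a minimal prime in the fibre, as many as the height of `P`
in the fibre. -/
theorem exists_vec_minimal (P : PrimeSpectrum A) (r : ℕ)
    (hr : Order.height (⟨P, rfl⟩ : PrimeSpectrum.comap (algebraMap R A) ⁻¹'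
      {PrimeSpectrum.comap (algebraMap R A) P}) = r) :
    ∃ b : Fin r → A, (∀ j, b j ∈ P.asIdeal) ∧ ∀ P' : PrimeSpectrum A,
      PrimeSpectrum.comap (algebraMap R A) P' = PrimeSpectrum.comap (algebraMap R A) P →
        P' ≤ P → (∀ j, b j ∈ P'.asIdeal) → P' = P := by
  classical
  set p := PrimeSpectrum.comap (algebraMap R A) P with hp
  let F := p.asIdeal.Fiber A
  let eo := PrimeSpectrum.preimageOrderIsoFiber R A p
  haveI : IsNoetherianRing F := Algebra.FiniteType.isNoetherianRing p.asIdeal.ResidueField F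
  set Pb : PrimeSpectrum F := eo ⟨P, rfl⟩ with hPb
  obtain ⟨s, hmin, hcard⟩ := Pb.asIdeal.exists_finset_card_eq_height_of_isNoetherianRing
  have hcard' : s.card = r := by
    have h1 : Pb.asIdeal.height = r := by
      rw [PrimeSpectrum.height_eq_orderHeight, hPb, Order.height_orderIso, hr]
    rw [h1] at hcard
    exact_mod_cast hcard
  let es : Fin r ≃ s := (Fintype.equivFinOfCardEq (by simpa using hcard')).symm
  choose ry hry by' hby using fun y : F => Ideal.Fiber.exists_smul_eq_one_tmul p.asIdeal y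
  have hcomap : ∀ (Q : PrimeSpectrum.comap (algebraMap R A) ⁻¹' {p}) (a : A),
      (1 : p.asIdeal.ResidueField) ⊗ₜ[R] a ∈ (eo Q).asIdeal ↔ a ∈ Q.1.asIdeal := by
    intro Q a
    have h1 : Q = eo.symm (eo Q) := (eo.symm_apply_apply Q).symm
    conv_rhs => rw [h1]
    rfl
  have hunit : ∀ (Q : PrimeSpectrum F) (y : F), ry y • y ∈ Q.asIdeal → y ∈ Q.asIdeal := by
    intro Q y hy
    rw [Algebra.smul_def] at hy
    rcases Q.2.mem_or_mem hy with h | h
    · exfalso
      have : ry y ∈ Q.asIdeal.under R := h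
      rw [← Ideal.over_def Q.asIdeal p.asIdeal] at this
      exact hry y this
    · exact h
  refine ⟨fun j => by' (es j).1, fun j => ?_, fun P' hP' hle hb => ?_⟩
  · have h1 : (es j).1 ∈ Pb.asIdeal := hmin.1.2 (Ideal.subset_span (es j).2)
    have h2 : ry (es j).1 • (es j).1 ∈ Pb.asIdeal := Submodule.smul_of_tower_mem _ _ h1
    rw [hby, hPb, hcomap] at h2
    exact h2
  · have hle' : eo ⟨P', hP'⟩ ≤ Pb := eo.monotone hle
    have hspan : Ideal.span (s : Set F) ≤ (eo ⟨P', hP'⟩).asIdeal := by
      rw [Ideal.span_le]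
      intro y hy
      apply hunit
      rw [hby, hcomap]
      have := hb (es.symm ⟨y, hy⟩)
      simpa using this
    have hge : Pb.asIdeal ≤ (eo ⟨P', hP'⟩).asIdeal := hmin.2 ⟨(eo ⟨P', hP'⟩).2, hspan⟩ hle'
    have heq : eo ⟨P', hP'⟩ = Pb := le_antisymm hle' hge
    have := eo.injective heq
    exact congrArg Subtype.val this

end below

section qf

variable {B A : Type*} [CommRing B] [CommRing A] [Algebra B A] [Algebra.FiniteType B A]

/-- A prime with no comparable prime in the same fibre is an isolated point of the fibre, so the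
algebra is quasi-finite there. -/
theorem quasiFiniteAt_of_isolated (P : PrimeSpectrum A)
    (h : ∀ P' : PrimeSpectrum A, PrimeSpectrum.comap (algebraMap B A) P' =
      PrimeSpectrum.comap (algebraMap B A) P → (P' ≤ P ∨ P ≤ P') → P' = P) :
    Algebra.QuasiFiniteAt B P.asIdeal := by
  apply Algebra.QuasiFiniteAt.of_isOpen_singleton_fiber P
  set q := PrimeSpectrum.comap (algebraMap B A) P with hq
  let e := PrimeSpectrum.preimageHomeomorphFiber B A q
  let eo := PrimeSpectrum.preimageOrderIsoFiber B A q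
  have heo : ∀ z, e z = eo z := fun _ => rfl
  rw [← e.isOpen_image, Set.image_singleton]
  let F := q.asIdeal.Fiber A
  haveI : IsNoetherianRing F := Algebra.FiniteType.isNoetherianRing q.asIdeal.ResidueField F
  haveI : IsJacobsonRing F := isJacobsonRing_of_finiteType (A := q.asIdeal.ResidueField)
  have key : ∀ Q : PrimeSpectrum F, (Q ≤ e ⟨P, rfl⟩ ∨ e ⟨P, rfl⟩ ≤ Q) → Q = e ⟨P, rfl⟩ := by
    intro Q hQ
    obtain ⟨⟨P', hP'⟩, rfl⟩ := e.surjective Q
    have : P' = P := by
      apply h P' hP'
      rcases hQ with h1 | h1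
      · left
        rw [heo, heo] at h1
        exact eo.le_iff_le.1 h1
      · right
        rw [heo, heo] at h1
        exact eo.le_iff_le.1 h1
    subst this
    rfl
  have tf := PrimeSpectrum.isOpen_singleton_tfae_of_isNoetherian_of_isJacobsonRing (e ⟨P, rfl⟩)
  have tf' : IsClosed {e ⟨P, rfl⟩} ∧ StableUnderGeneralization {e ⟨P, rfl⟩} ↔
      IsOpen {e ⟨P, rfl⟩} := tf.out 2 0
  refine tf'.1 ⟨?_, ?_⟩
  · rw [PrimeSpectrum.isClosed_singleton_iff_isMaximal]
    obtain ⟨M, hM, hle⟩ := Ideal.exists_le_maximal (e ⟨P, rfl⟩).asIdeal (e ⟨P, rfl⟩).2.ne_top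
    have := key ⟨M, hM.isPrime⟩ (Or.inr hle)
    rw [← this]
    exact hM
  · intro x y hyx hx
    rw [Set.mem_singleton_iff] at hx ⊢
    subst hx
    exact key y (Or.inl ((PrimeSpectrum.le_iff_specializes _ _).2 hyx))

end qf

section main

variable {R A : Type u} [CommRing R] [CommRing A] [Algebra R A] [Algebra.FiniteType R A]

/-- **Algebraic core**: there are `e + r` elements of `A` such that `R[T] → A` is quasi-finite at
`P`, where `e` is the residue transcendence degree and `r` the height of `P` in its fibre. -/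
theorem exists_vec_quasiFiniteAt (P : PrimeSpectrum A) (p : Ideal R) [p.IsPrime]
    [P.asIdeal.LiesOver p] (e r : ℕ) (he : Algebra.trdeg (R ⧸ p) (A ⧸ P.asIdeal) = e)
    (hr : Order.height (⟨P, rfl⟩ : PrimeSpectrum.comap (algebraMap R A) ⁻¹'
      {PrimeSpectrum.comap (algebraMap R A) P}) = r) {n : Type*} (σ : Fin (e + r) ≃ n) :
    ∃ c : n → A,
      (MvPolynomial.aeval c : MvPolynomial n R →ₐ[R] A).toRingHom.QuasiFiniteAt P.asIdeal := by
  obtain ⟨a, halg⟩ := exists_vec_algebraic P.asIdeal p e he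
  obtain ⟨b, hbP, hb⟩ := exists_vec_minimal (R := R) P r hr
  refine ⟨Fin.append a b ∘ σ.symm, ?_⟩
  set ψ : MvPolynomial n R →ₐ[R] A := MvPolynomial.aeval (Fin.append a b ∘ σ.symm) with hψ
  letI : Algebra (MvPolynomial n R) A := ψ.toRingHom.toAlgebra
  haveI : IsScalarTower R (MvPolynomial n R) A :=
    IsScalarTower.of_algebraMap_eq fun x => (ψ.commutes x).symm
  haveI : Algebra.FiniteType (MvPolynomial n R) A :=
    Algebra.FiniteType.of_restrictScalars_finiteType R _ A
  show Algebra.QuasiFiniteAt (MvPolynomial n R) P.asIdeal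
  apply quasiFiniteAt_of_isolated
  intro P' hP' hcomp
  have hmem : ∀ g : MvPolynomial n R, ψ g ∈ P'.asIdeal ↔ ψ g ∈ P.asIdeal := by
    intro g
    have := congrArg PrimeSpectrum.asIdeal hP'
    exact Ideal.ext_iff.1 this g
  rcases hcomp with hle | hle
  · apply hb P' ?_ hle
    · intro j
      have h1 : ψ (MvPolynomial.X (σ (Fin.natAdd e j))) = b j := by
        rw [hψ, MvPolynomial.aeval_X, Function.comp_apply, Equiv.symm_apply_apply,
          Fin.append_right]
      rw [← h1, hmem, h1]
      exact hbP j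
    · apply PrimeSpectrum.ext
      ext x
      have h1 : ψ (MvPolynomial.C x) = algebraMap R A x := by
        rw [hψ, MvPolynomial.aeval_C]
      show algebraMap R A x ∈ P'.asIdeal ↔ algebraMap R A x ∈ P.asIdeal
      rw [← h1]
      exact hmem _
  · apply PrimeSpectrum.ext
    apply eq_of_le_of_forall_aeval a P.asIdeal p halg P'.asIdeal hle
    intro g hg
    have h1 : ψ (MvPolynomial.rename (σ ∘ Fin.castAdd r) g) = MvPolynomial.aeval a g := by
      rw [hψ, MvPolynomial.aeval_rename]
      congr 2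
      ext i
      simp [Fin.append_left]
    rw [← h1] at hg ⊢
    exact (hmem _).1 hg

end main

end Groth.Agent.Lib.Helper18.Chev
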