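import Mathlib
import Groth.Agent.Lib.Helper18.Chev.AlgCore
import Groth.Agent.Lib.Helper24.FibreDim.Main3448
import Groth.Agent.Lib.lead.FibreDimFormula
import Groth.Prelude.Def_Flat

/-!
# From the algebraic core to schemes: a quasi-finite map to affine space (helper18)

For a morphism `g : U ⟶ V` of affine schemes, locally of finite type, and `x : U` with
`dim_x U_{g x} = d`, there is a `V`-morphism `U ⟶ 𝔸^d_V` quasi-finite at `x`.
-/

set_option autoImplicit false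
set_option linter.style.haveILetI false
set_option linter.unusedVariables false
universe u
open AlgebraicGeometry CategoryTheory Groth.Agent.Lib.lead Groth.Agent.Lib.Helper24

namespace Groth.Agent.Lib.Helper18.Chev

/-- Quasi-finiteness at a prime of a ring map gives quasi-finiteness of `Spec.map` at the point. -/
theorem quasiFiniteAt_SpecMap {R A : CommRingCat.{u}} (φ : R ⟶ A) (x : PrimeSpectrum A)
    (h : φ.hom.QuasiFiniteAt x.asIdeal) : (Spec.map φ).QuasiFiniteAt (x : Spec A) := by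
  algebraize [φ.hom]
  let := Localization.AtPrime.algebraOfLiesOver (x.asIdeal.under R) x.asIdeal
  have h' : Algebra.QuasiFiniteAt R x.asIdeal := h
  have h1 : Algebra.QuasiFinite (Localization.AtPrime (x.asIdeal.under R))
      (Localization.AtPrime x.asIdeal) := .of_restrictScalars R _ _
  show ((Spec.map φ).stalkMap x).hom.QuasiFinite
  rw [← RingHom.quasiFinite_algebraMap] at h1
  exact (RingHom.QuasiFinite.respectsIso.arrow_mk_iso_iff (Scheme.arrowStalkMapSpecIso ..)).2 h1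

variable {U V : Scheme.{u}} [IsAffine U] [IsAffine V]

theorem mem_isoSpec_iff (x : U) (f : Γ(U, ⊤)) :
    f ∈ (U.isoSpec.hom x).asIdeal ↔ x ∉ U.basicOpen f := by
  rw [← Scheme.toSpecΓ_preimage_basicOpen, Scheme.isoSpec_hom]
  have key : ∀ y : PrimeSpectrum Γ(U, ⊤), f ∈ y.asIdeal ↔
      ¬ (y ∈ (PrimeSpectrum.basicOpen f : Set (PrimeSpectrum _))) := by
    intro y
    rw [PrimeSpectrum.basicOpen_eq_zeroLocus_compl, Set.mem_compl_iff, not_not,
      PrimeSpectrum.mem_zeroLocus, Set.singleton_subset_iff]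
    rfl
  exact key (U.toSpecΓ x)

theorem primeIdealOf_top (x : U) :
    (isAffineOpen_top U).primeIdealOf ⟨x, trivial⟩ = U.isoSpec.hom x := by
  apply PrimeSpectrum.ext
  ext f
  rw [Groth.Agent.Lib.Helper7.AffPts.mem_primeIdealOf_iff, mem_isoSpec_iff]

theorem comap_isoSpec (g : U ⟶ V) (x : U) :
    PrimeSpectrum.comap g.appTop.hom (U.isoSpec.hom x) = V.isoSpec.hom (g x) := by
  have := Scheme.isoSpec_hom_naturality g
  have h2 := congrArg (fun k => k x) this
  simp only [Scheme.Hom.comp_apply] at h2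
  exact h2

/-- `trdeg_chart` with the prime as a variable. -/
theorem trdeg_chart' {X Y : Scheme.{u}} (f : X ⟶ Y) [LocallyOfFiniteType f] {V : Y.Opens}
    (hV : IsAffineOpen V) {U : X.Opens} (hU : IsAffineOpen U) (e : U ≤ f ⁻¹ᵁ V) (x : X)
    (hx : x ∈ U) [Algebra Γ(Y, V) Γ(X, U)]
    (halg : algebraMap Γ(Y, V) Γ(X, U) = (f.appLE V U e).hom)
    (p : Ideal Γ(Y, V)) (hp : p = (hV.primeIdealOf ⟨f x, e hx⟩).asIdeal)
    (P : Ideal Γ(X, U)) (hP : P = (hU.primeIdealOf ⟨x, hx⟩).asIdeal) [P.LiesOver p] :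
    Algebra.trdeg (Γ(Y, V) ⧸ p) (Γ(X, U) ⧸ P) = FibreDim.tr f x := by
  subst hP
  exact FibreDim.trdeg_chart f hV hU e x hx halg p hp

/-- The residue transcendence degree at a point of an affine scheme over an affine scheme. -/
theorem tr_eq_trdeg (g : U ⟶ V) [LocallyOfFiniteType g] (x : U)
    [Algebra Γ(V, ⊤) Γ(U, ⊤)] (halg : algebraMap Γ(V, ⊤) Γ(U, ⊤) = g.appTop.hom)
    (p : Ideal Γ(V, ⊤)) (hp : p = (V.isoSpec.hom (g x)).asIdeal)
    [(U.isoSpec.hom x).asIdeal.LiesOver p] :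
    Algebra.trdeg (Γ(V, ⊤) ⧸ p) (Γ(U, ⊤) ⧸ (U.isoSpec.hom x).asIdeal) = FibreDim.tr g x := by
  have e : (⊤ : U.Opens) ≤ g ⁻¹ᵁ ⊤ := le_of_eq rfl
  have happ : g.appLE ⊤ ⊤ e = g.appTop := Scheme.Hom.appLE_eq_app g
  refine trdeg_chart' g (isAffineOpen_top V) (isAffineOpen_top U) e x trivial
    (by rw [happ]; exact halg) p ?_ _ ?_
  · rw [hp, primeIdealOf_top]
  · rw [primeIdealOf_top]

/-- The coheight of a point in its fibre is the height of its prime among the primes of the fibre. -/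
theorem G_eq_height (g : U ⟶ V) (x : U) [Algebra Γ(V, ⊤) Γ(U, ⊤)]
    (halg : algebraMap Γ(V, ⊤) Γ(U, ⊤) = g.appTop.hom) :
    FibreOrder.G g x = Order.height (⟨U.isoSpec.hom x, rfl⟩ :
      PrimeSpectrum.comap (algebraMap Γ(V, ⊤) Γ(U, ⊤)) ⁻¹'
        {PrimeSpectrum.comap (algebraMap Γ(V, ⊤) Γ(U, ⊤)) (U.isoSpec.hom x)}) := by
  let h : U ≃ₜ PrimeSpectrum Γ(U, ⊤) := Scheme.homeoOfIso U.isoSpec
  have hh : ∀ z, h z = U.isoSpec.hom z := fun _ => rfl
  have hinj : Function.Injective (V.isoSpec.hom : V → Spec Γ(V, ⊤)) :=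
    (Scheme.homeoOfIso V.isoSpec).injective
  have hfib : ∀ z : U, z ∈ g ⁻¹' {g x} ↔ h z ∈ PrimeSpectrum.comap (algebraMap Γ(V, ⊤) Γ(U, ⊤)) ⁻¹'
      {PrimeSpectrum.comap (algebraMap Γ(V, ⊤) Γ(U, ⊤)) (U.isoSpec.hom x)} := by
    intro z
    show g z = g x ↔ PrimeSpectrum.comap (algebraMap Γ(V, ⊤) Γ(U, ⊤)) (h z) =
      PrimeSpectrum.comap (algebraMap Γ(V, ⊤) Γ(U, ⊤)) (U.isoSpec.hom x)
    rw [halg, hh, comap_isoSpec, comap_isoSpec]
    exact hinj.eq_iff.symm
  let Θ : ↥(g ⁻¹' {g x}) ≃ (↥(PrimeSpectrum.comap (algebraMap Γ(V, ⊤) Γ(U, ⊤)) ⁻¹'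
      {PrimeSpectrum.comap (algebraMap Γ(V, ⊤) Γ(U, ⊤)) (U.isoSpec.hom x)}))ᵒᵈ :=
    (h.toEquiv.subtypeEquiv hfib).trans OrderDual.toDual
  have hΘ : ∀ a, ((OrderDual.ofDual (Θ a)).1 : PrimeSpectrum Γ(U, ⊤)) = h a.1 := fun _ => rfl
  let Θo : ↥(g ⁻¹' {g x}) ≃o (↥(PrimeSpectrum.comap (algebraMap Γ(V, ⊤) Γ(U, ⊤)) ⁻¹'
      {PrimeSpectrum.comap (algebraMap Γ(V, ⊤) Γ(U, ⊤)) (U.isoSpec.hom x)}))ᵒᵈ :=
    { toEquiv := Θ
      map_rel_iff' := by
        intro a b
        show (OrderDual.ofDual (Θ b)).1 ≤ (OrderDual.ofDual (Θ a)).1 ↔ a.1 ≤ b.1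
        rw [hΘ, hΘ, PrimeSpectrum.le_iff_specializes, Scheme.le_iff_specializes]
        exact h.isInducing.specializes_iff }
  have h1 := Order.coheight_orderIso Θo ⟨x, rfl⟩
  unfold FibreOrder.G
  rw [← h1]
  rfl

/-- The map to affine space given by a vector of global sections, composed with the identification
of affine space over an affine base with the spectrum of a polynomial ring. -/
theorem homOfVector_comp_isoOfIsAffine {n : Type u} (g : U ⟶ V) (c : n → Γ(U, ⊤)) :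
    AffineSpace.homOfVector g c ≫ (AffineSpace.isoOfIsAffine n V).hom =
      U.isoSpec.hom ≫ Spec.map (CommRingCat.ofHom (MvPolynomial.eval₂Hom g.appTop.hom c)) := by
  rw [AffineSpace.isoOfIsAffine_hom, ← Category.assoc, Scheme.isoSpec_hom,
    Scheme.toSpecΓ_naturality, Category.assoc, ← Spec.map_comp]
  congr 2
  ext : 1
  apply MvPolynomial.ringHom_ext
  · intro r
    simp only [CommRingCat.hom_comp, CommRingCat.hom_ofHom, RingHom.comp_apply,
      MvPolynomial.eval₂Hom_C]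
    rw [← CommRingCat.comp_apply, ← Scheme.Hom.comp_appTop, AffineSpace.homOfVector_over]
  · intro i
    simp only [CommRingCat.hom_comp, CommRingCat.hom_ofHom, RingHom.comp_apply,
      MvPolynomial.eval₂Hom_X']
    exact AffineSpace.homOfVector_appTop_coord g c i

/-- **Local structure**: a quasi-finite (at `x`) map to the affine space of dimension the local
dimension of the fibre, for affine schemes. -/
theorem exists_hom_affineSpace_quasiFiniteAt (g : U ⟶ V) [LocallyOfFiniteType g] (x : U) (d : ℕ)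
    (hd : FlatMor.fibreDimAt g x = d) :
    ∃ π : U ⟶ 𝔸(ULift.{u} (Fin d); V),
      π ≫ (𝔸(ULift.{u} (Fin d); V) ↘ V) = g ∧ π.QuasiFiniteAt x := by
  letI : Algebra Γ(V, ⊤) Γ(U, ⊤) := g.appTop.hom.toAlgebra
  have halg : algebraMap Γ(V, ⊤) Γ(U, ⊤) = g.appTop.hom := rfl
  haveI : Algebra.FiniteType Γ(V, ⊤) Γ(U, ⊤) :=
    (HasRingHomProperty.iff_of_isAffine (P := @LocallyOfFiniteType)).1 ‹_›
  set P : PrimeSpectrum Γ(U, ⊤) := U.isoSpec.hom x with hP
  set p : Ideal Γ(V, ⊤) := (V.isoSpec.hom (g x)).asIdeal with hp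
  haveI : p.IsPrime := (V.isoSpec.hom (g x)).2
  haveI : P.asIdeal.LiesOver p := ⟨by
    rw [hp, ← comap_isoSpec]
    rfl⟩
  have he := tr_eq_trdeg g x halg p hp
  obtain ⟨r, hr⟩ := FibreDimFormula.exists_nat_G g x
  have hr' := G_eq_height g x halg
  rw [hr] at hr'
  have hd' : FibreDim.tr g x + r = d := by
    have h1 := FibreDimFormula.fibreDimAt_eq g x r hr
    rw [hd] at h1
    exact_mod_cast h1.symm
  let σ : Fin (FibreDim.tr g x + r) ≃ ULift.{u} (Fin d) :=
    (finCongr hd').trans Equiv.ulift.symm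
  obtain ⟨c, hc⟩ := exists_vec_quasiFiniteAt P p (FibreDim.tr g x) r he hr'.symm σ
  refine ⟨AffineSpace.homOfVector g c, AffineSpace.homOfVector_over g c, ?_⟩
  rw [← Scheme.Hom.quasiFiniteAt_comp_iff (g := (AffineSpace.isoOfIsAffine _ V).hom),
    homOfVector_comp_isoOfIsAffine, Scheme.Hom.quasiFiniteAt_comp_iff_of_isOpenImmersion]
  apply quasiFiniteAt_SpecMap
  exact hc

end Groth.Agent.Lib.Helper18.Chev
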