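import Mathlib
import Groth.Agent.Lib.Helper24.FibreDim.Equidim
import Groth.Agent.Lib.lead.FibreDimFormula
import Groth.Agent.Lib.lead.RelDimFormulaSp
import Groth.Agent.Lib.lead.QFSurjComp
import Groth.Agent.Lib.Helper21.TopDim
import Groth.Prelude.Def_Flat

/-!
# Fibre dimension: open immersions, quasi-finite maps and affine space (helper18)
-/

set_option autoImplicit false
set_option linter.style.haveILetI false
set_option linter.unusedVariables false
universe u
open AlgebraicGeometry CategoryTheory Groth.Agent.Lib.lead Groth.Agent.Lib.Helper24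

namespace Groth.Agent.Lib.Helper18.Chev

theorem tr_congr {X Y : Scheme.{u}} {f f' : X ⟶ Y} [LocallyOfFiniteType f]
    [LocallyOfFiniteType f'] (h : f = f') (w : X) : FibreDim.tr f w = FibreDim.tr f' w := by
  subst h; rfl

theorem G_congr {X Y : Scheme.{u}} {f f' : X ⟶ Y} (h : f = f') (w : X) :
    FibreOrder.G f w = FibreOrder.G f' w := by
  subst h; rfl

/-- Composition with an open immersion on the target does not change the residue transcendence
degree. -/
theorem tr_comp_openImmersion_right {X Y Y' : Scheme.{u}} (k : X ⟶ Y) (q : Y ⟶ Y')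
    [IsOpenImmersion q] [LocallyOfFiniteType k] [LocallyOfFiniteType (k ≫ q)] (w : X) :
    FibreDim.tr (k ≫ q) w = FibreDim.tr k w := by
  have h1 := FibreDim.tr_spec (k ≫ q) w
  have h2 := FibreDim.tr_spec k w
  letI a1 : Algebra (Y'.residueField (q (k w))) (X.residueField w) :=
    ((k ≫ q).residueFieldMap w).hom.toAlgebra
  letI a2 : Algebra (Y.residueField (k w)) (X.residueField w) :=
    (k.residueFieldMap w).hom.toAlgebra
  have h3 : Algebra.trdeg (Y'.residueField (q (k w))) (X.residueField w) =
      Algebra.trdeg (Y.residueField (k w)) (X.residueField w) := by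
    refine NonDomainDim.trdeg_eq_of_ringEquiv
      (asIso (q.residueFieldMap (k w))).commRingCatIsoToRingEquiv (RingEquiv.refl _) ?_
    intro r
    show ((k ≫ q).residueFieldMap w).hom r =
      (k.residueFieldMap w).hom ((q.residueFieldMap (k w)).hom r)
    rw [Scheme.residueFieldMap_comp]
    rfl
  have h4 : ((FibreDim.tr (k ≫ q) w : ℕ) : Cardinal.{u}) = (FibreDim.tr k w : ℕ) := by
    rw [← h2, ← h1]
    exact h3
  exact_mod_cast h4

/-- The local fibre dimension is unchanged in a commutative square with open immersions as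
vertical maps. -/
theorem fibreDimAt_eq_of_openImmersion_square {W V U₁ V₁ : Scheme.{u}} (k : W ⟶ V) (q : V ⟶ V₁)
    (p : W ⟶ U₁) (h : U₁ ⟶ V₁) [IsOpenImmersion p] [IsOpenImmersion q] [LocallyOfFiniteType h]
    [LocallyOfFiniteType k] (comm : k ≫ q = p ≫ h) (w : W) :
    FlatMor.fibreDimAt h (p w) = FlatMor.fibreDimAt k w := by
  rw [FibreDim.fibreDimAt_eq_tr_add_G, FibreDim.fibreDimAt_eq_tr_add_G,
    RelDimFormulaSp.G_eq_of_etale_square k q p h comm w]
  haveI : LocallyOfFiniteType (k ≫ q) := inferInstance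
  haveI : LocallyOfFiniteType (p ≫ h) := inferInstance
  have h1 : FibreDim.tr h (p w) = FibreDim.tr k w := by
    rw [← FibreDim.tr_comp_openImmersion p h w, ← tr_comp_openImmersion_right k q w]
    exact (tr_congr comm w).symm
  rw [h1]

/-- For `π` locally quasi-finite, the fibre dimension of `π ≫ pr` at `u` is at most that of `pr`
at `π u`. -/
theorem fibreDimAt_comp_le_of_lqf {U W V : Scheme.{u}} (π : U ⟶ W) (pr : W ⟶ V)
    [LocallyQuasiFinite π] [LocallyOfFiniteType π] [LocallyOfFiniteType pr] (u : U) :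
    FlatMor.fibreDimAt (π ≫ pr) u ≤ FlatMor.fibreDimAt pr (π u) := by
  haveI : LocallyOfFiniteType (π ≫ pr) := inferInstance
  rw [FibreDim.fibreDimAt_eq_tr_add_G, FibreDim.fibreDimAt_eq_tr_add_G]
  have htr : FibreDim.tr (π ≫ pr) u = FibreDim.tr pr (π u) := by
    have h0 := QFCodimOne.trdeg_eq_zero_of_quasiFiniteAt π u (π.quasiFiniteAt u)
    have h1 := FibreDim.tr_spec (π ≫ pr) u
    have h2 := FibreDim.tr_spec pr (π u)
    letI a1 : Algebra (V.residueField (pr (π u))) (W.residueField (π u)) :=
      (pr.residueFieldMap (π u)).hom.toAlgebra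
    letI a2 : Algebra (W.residueField (π u)) (U.residueField u) :=
      (π.residueFieldMap u).hom.toAlgebra
    letI a3 : Algebra (V.residueField (pr (π u))) (U.residueField u) :=
      ((π ≫ pr).residueFieldMap u).hom.toAlgebra
    haveI : IsScalarTower (V.residueField (pr (π u))) (W.residueField (π u))
        (U.residueField u) := IsScalarTower.of_algebraMap_eq fun r => by
      show ((π ≫ pr).residueFieldMap u).hom r =
        (π.residueFieldMap u).hom ((pr.residueFieldMap (π u)).hom r)
      rw [Scheme.residueFieldMap_comp]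
      rfl
    have h3 := _root_.trdeg_add_eq (V.residueField (pr (π u))) (W.residueField (π u))
      (A := U.residueField u)
    have h1' : Algebra.trdeg (V.residueField (pr (π u))) (U.residueField u) =
        (FibreDim.tr (π ≫ pr) u : ℕ) := h1
    have h4 : ((FibreDim.tr pr (π u) : ℕ) : Cardinal.{u}) = (FibreDim.tr (π ≫ pr) u : ℕ) := by
      rw [← h1', ← h2, ← h3]
      have : Algebra.trdeg (W.residueField (π u)) (U.residueField u) = 0 := h0
      rw [this, add_zero]
    exact_mod_cast h4.symm
  have hG : FibreOrder.G (π ≫ pr) u ≤ FibreOrder.G pr (π u) := by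
    let φ : ↥((π ≫ pr) ⁻¹' {(π ≫ pr) u}) → ↥(pr ⁻¹' {pr (π u)}) := fun z =>
      ⟨π z.1, z.2⟩
    have hφ : StrictMono φ := by
      intro a b hab
      have hle : a.1 ≤ b.1 := hab.le
      have hsp : b.1 ⤳ a.1 := Scheme.le_iff_specializes.1 hle
      rw [lt_iff_le_not_ge]
      refine ⟨?_, fun hcon => ?_⟩
      · show π a.1 ≤ π b.1
        rw [Scheme.le_iff_specializes]
        exact hsp.map π.continuous
      · have h1 : π a.1 ⤳ π b.1 := Scheme.le_iff_specializes.1 hcon
        have h2 : π b.1 ⤳ π a.1 := hsp.map π.continuous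
        have h3 : π b.1 = π a.1 := (h2.antisymm h1).eq
        have h4 : b.1 = a.1 := Groth.Agent.Lib.Helper4.QFinDim.no_spec_in_fibre π b.1 a.1 hsp h3
        exact absurd (Subtype.ext h4 : b = a) (ne_of_gt hab)
    exact Order.coheight_le_coheight_apply_of_strictMono φ hφ ⟨u, rfl⟩
  rw [htr]
  have : ((FibreDim.tr pr (π u) : ℕ) : ℕ∞) + FibreOrder.G (π ≫ pr) u ≤
      ((FibreDim.tr pr (π u) : ℕ) : ℕ∞) + FibreOrder.G pr (π u) := by gcongr
  exact_mod_cast this


/-- The fibres of affine `n`-space have dimension `n`. -/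
theorem topologicalKrullDim_fiber_affineSpace (n : Type u) [Finite n] (V : Scheme.{u}) (s : V) :
    topologicalKrullDim ((𝔸(n; V) ↘ V).fiber s) = (Nat.card n : WithBot ℕ∞) := by
  have hpb := AffineSpace.isPullback_map (n := n) (V.fromSpecResidueField s)
  let i1 : 𝔸(n; Spec (V.residueField s)) ≅ (𝔸(n; V) ↘ V).fiber s := hpb.isoPullback
  let i2 : 𝔸(n; Spec (V.residueField s)) ≅ Spec (.of (MvPolynomial n (V.residueField s))) :=
    AffineSpace.SpecIso n (V.residueField s)
  rw [← IsHomeomorph.topologicalKrullDim_eq _ i1.hom.homeomorph.isHomeomorph,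
    IsHomeomorph.topologicalKrullDim_eq _ i2.hom.homeomorph.isHomeomorph]
  show topologicalKrullDim (PrimeSpectrum (MvPolynomial n (V.residueField s))) = _
  rw [PrimeSpectrum.topologicalKrullDim_eq_ringKrullDim,
    MvPolynomial.ringKrullDim_of_isNoetherianRing, ringKrullDim_eq_zero_of_field, zero_add]

theorem fibreDimAt_affineSpace_le (n : Type u) [Finite n] (V : Scheme.{u}) (y : 𝔸(n; V)) :
    FlatMor.fibreDimAt (𝔸(n; V) ↘ V) y ≤ (Nat.card n : WithBot ℕ∞) := by
  unfold FlatMor.fibreDimAt
  refine (Groth.Agent.Lib.Helper21.TopDim.localDim_le _).trans ?_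
  rw [topologicalKrullDim_fiber_affineSpace]

end Groth.Agent.Lib.Helper18.Chev


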