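import Mathlib
import Groth.Agent.Lib.Helper18.Chev.Bridge
import Groth.Agent.Lib.Helper18.Chev.SchemeBound

/-!
# Chevalley's upper semicontinuity of fibre dimension on the source (helper18)
-/

set_option autoImplicit false
set_option linter.style.haveILetI false
set_option linter.unusedVariables false
universe u
open AlgebraicGeometry CategoryTheory Groth.Agent.Lib.lead Groth.Agent.Lib.Helper24

namespace Groth.Agent.Lib.Helper18.Chev

theorem fibreDimAt_congr {X Y : Scheme.{u}} {f f' : X ⟶ Y} (h : f = f') (w : X) :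
    FlatMor.fibreDimAt f w = FlatMor.fibreDimAt f' w := by
  subst h; rfl

/-- The local fibre dimension is a natural number. -/
theorem exists_nat_fibreDimAt {X Y : Scheme.{u}} (f : X ⟶ Y) [LocallyOfFiniteType f] (x : X) :
    ∃ d : ℕ, FlatMor.fibreDimAt f x = d := by
  obtain ⟨r, hr⟩ := FibreDimFormula.exists_nat_G f x
  exact ⟨_, FibreDimFormula.fibreDimAt_eq f x r hr⟩

/-- If `π : U ⟶ 𝔸^d_V` is a `V`-morphism, the fibre dimension of `U → V` at the points where `π`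
is quasi-finite is at most `d`. -/
theorem fibreDimAt_le_of_quasiFiniteAt {U V : Scheme.{u}} (g : U ⟶ V) [LocallyOfFiniteType g]
    (d : ℕ) (π : U ⟶ 𝔸(ULift.{u} (Fin d); V))
    (hπ : π ≫ (𝔸(ULift.{u} (Fin d); V) ↘ V) = g) (w : U) (hw : π.QuasiFiniteAt w) :
    FlatMor.fibreDimAt g w ≤ d := by
  haveI : LocallyOfFiniteType (π ≫ (𝔸(ULift.{u} (Fin d); V) ↘ V)) := by rw [hπ]; infer_instance
  haveI : LocallyOfFiniteType π := locallyOfFiniteType_of_comp π (𝔸(ULift.{u} (Fin d); V) ↘ V)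
  let W := π.quasiFiniteLocus
  have hwW : w ∈ W := hw
  -- restrict to the quasi-finite locus
  have h1 : FlatMor.fibreDimAt g (W.ι ⟨w, hwW⟩) = FlatMor.fibreDimAt (W.ι ≫ g) ⟨w, hwW⟩ :=
    fibreDimAt_eq_of_openImmersion_square (W.ι ≫ g) (𝟙 V) W.ι g (Category.comp_id _) ⟨w, hwW⟩
  have h2 : W.ι ≫ g = (W.ι ≫ π) ≫ (𝔸(ULift.{u} (Fin d); V) ↘ V) := by
    rw [Category.assoc, hπ]
  have h3 := fibreDimAt_comp_le_of_lqf (W.ι ≫ π) (𝔸(ULift.{u} (Fin d); V) ↘ V) ⟨w, hwW⟩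
  have h4 := fibreDimAt_affineSpace_le (ULift.{u} (Fin d)) V ((W.ι ≫ π) ⟨w, hwW⟩)
  have h5 : (Nat.card (ULift.{u} (Fin d)) : WithBot ℕ∞) = d := by
    simp
  calc FlatMor.fibreDimAt g w = FlatMor.fibreDimAt (W.ι ≫ g) ⟨w, hwW⟩ := h1
    _ = FlatMor.fibreDimAt ((W.ι ≫ π) ≫ (𝔸(ULift.{u} (Fin d); V) ↘ V)) ⟨w, hwW⟩ :=
        fibreDimAt_congr h2 _
    _ ≤ _ := h3
    _ ≤ _ := h4
    _ = d := h5

/-- **Chevalley's semicontinuity theorem** (on the source). -/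
theorem isOpen_fibreDimAt_le {X S : Scheme.{u}} (f : X ⟶ S) [LocallyOfFiniteType f] (n : ℕ) :
    IsOpen {x : X | FlatMor.fibreDimAt f x ≤ n} := by
  rw [isOpen_iff_forall_mem_open]
  intro x hx
  obtain ⟨V, hV, U, hU, e, hxU⟩ := FibreDim.exists_chart f x
  haveI : IsAffine U.toScheme := hU
  haveI : IsAffine V.toScheme := hV
  let g : U.toScheme ⟶ V.toScheme := f.resLE V U e
  have comm : g ≫ V.ι = U.ι ≫ f := f.resLE_comp_ι e
  haveI : LocallyOfFiniteType (g ≫ V.ι) := by rw [comm]; infer_instance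
  haveI : LocallyOfFiniteType g := locallyOfFiniteType_of_comp g V.ι
  have hsq : ∀ u : U.toScheme, FlatMor.fibreDimAt f (U.ι u) = FlatMor.fibreDimAt g u :=
    fun u => fibreDimAt_eq_of_openImmersion_square g V.ι U.ι f comm u
  obtain ⟨d, hd⟩ := exists_nat_fibreDimAt g ⟨x, hxU⟩
  have hdn : (d : WithBot ℕ∞) ≤ n := by
    rw [← hd, ← hsq ⟨x, hxU⟩]
    exact hx
  obtain ⟨π, hπ, hqf⟩ := exists_hom_affineSpace_quasiFiniteAt g ⟨x, hxU⟩ d hd
  haveI : LocallyOfFiniteType (π ≫ (𝔸(ULift.{u} (Fin d); V.toScheme) ↘ V.toScheme)) := by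
    rw [hπ]; infer_instance
  haveI : LocallyOfFiniteType π :=
    locallyOfFiniteType_of_comp π (𝔸(ULift.{u} (Fin d); V.toScheme) ↘ V.toScheme)
  let W := π.quasiFiniteLocus
  refine ⟨U.ι ''ᵁ W, ?_, (U.ι ''ᵁ W).isOpen, ⟨⟨x, hxU⟩, hqf, rfl⟩⟩
  rintro x' ⟨w, hw, rfl⟩
  show FlatMor.fibreDimAt f (U.ι w) ≤ n
  rw [hsq w]
  exact (fibreDimAt_le_of_quasiFiniteAt g d π hπ w hw).trans hdn

end Groth.Agent.Lib.Helper18.Chev
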