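import Mathlib
import Groth.Agent.Lib.Helper18.Chev.Main

/-!
# Local structure of morphisms locally of finite type: quasi-finite over affine space (helper18)
-/

set_option autoImplicit false
set_option linter.style.haveILetI false
set_option linter.unusedVariables false
universe u
open AlgebraicGeometry CategoryTheory Groth.Agent.Lib.lead Groth.Agent.Lib.Helper24

namespace Groth.Agent.Lib.Helper18.Chev

/-- Stacks 02FZ-type statement: locally on the source, a morphism locally of finite type with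
`dim_x X_{f x} = d` factors through a locally quasi-finite map to `𝔸^d` over a given affine open
of the base. -/
theorem exists_affine_nhd_quasiFinite {X S : Scheme.{u}} (f : X ⟶ S) [LocallyOfFiniteType f]
    (x : X) (V : S.Opens) (hV : IsAffineOpen V) (hxV : f x ∈ V) (d : ℕ)
    (hd : FlatMor.fibreDimAt f x = d) :
    ∃ (U : X.Opens), IsAffineOpen U ∧ x ∈ U ∧
      ∃ (g : (U : Scheme.{u}) ⟶ (V : Scheme.{u}))
        (π : (U : Scheme.{u}) ⟶ 𝔸(ULift.{u} (Fin d); (V : Scheme.{u}))),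
        g ≫ V.ι = U.ι ≫ f ∧
          π ≫ (𝔸(ULift.{u} (Fin d); (V : Scheme.{u})) ↘ (V : Scheme.{u})) = g ∧
          LocallyQuasiFinite π ∧ LocallyOfFiniteType π := by
  obtain ⟨U₀', hU₀', hxU₀', e₀'⟩ := TopologicalSpace.Opens.isBasis_iff_nbhd.mp
    X.isBasis_affineOpens (show x ∈ f ⁻¹ᵁ V from hxV)
  let U₀ : X.Opens := U₀'
  have hU₀ : IsAffineOpen U₀ := hU₀'
  have hxU₀ : x ∈ U₀ := hxU₀'
  have e₀ : U₀ ≤ f ⁻¹ᵁ V := e₀'
  haveI : IsAffine U₀.toScheme := hU₀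
  haveI : IsAffine V.toScheme := hV
  let g₀ : U₀.toScheme ⟶ V.toScheme := f.resLE V U₀ e₀
  have comm₀ : g₀ ≫ V.ι = U₀.ι ≫ f := f.resLE_comp_ι e₀
  haveI : LocallyOfFiniteType (g₀ ≫ V.ι) := by rw [comm₀]; infer_instance
  haveI : LocallyOfFiniteType g₀ := locallyOfFiniteType_of_comp g₀ V.ι
  have hd₀ : FlatMor.fibreDimAt g₀ ⟨x, hxU₀⟩ = d := by
    rw [← fibreDimAt_eq_of_openImmersion_square g₀ V.ι U₀.ι f comm₀ ⟨x, hxU₀⟩]
    exact hd
  obtain ⟨π₀, hπ₀, hqf⟩ := exists_hom_affineSpace_quasiFiniteAt g₀ ⟨x, hxU₀⟩ d hd₀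
  haveI : LocallyOfFiniteType (π₀ ≫ (𝔸(ULift.{u} (Fin d); V.toScheme) ↘ V.toScheme)) := by
    rw [hπ₀]; infer_instance
  haveI : LocallyOfFiniteType π₀ :=
    locallyOfFiniteType_of_comp π₀ (𝔸(ULift.{u} (Fin d); V.toScheme) ↘ V.toScheme)
  let W := π₀.quasiFiniteLocus
  have hxW : x ∈ U₀.ι ''ᵁ W := ⟨⟨x, hxU₀⟩, hqf, rfl⟩
  obtain ⟨a, haW, hxa⟩ := hU₀.exists_basicOpen_le ⟨x, hxW⟩ hxU₀
  have hle : X.basicOpen a ≤ U₀ := X.basicOpen_le a
  have e : X.basicOpen a ≤ f ⁻¹ᵁ V := hle.trans e₀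
  let j : (X.basicOpen a).toScheme ⟶ U₀.toScheme := X.homOfLE hle
  have hj : ∀ u : (X.basicOpen a).toScheme, j u ∈ W := by
    intro u
    obtain ⟨w, hw, hwu⟩ := haW u.2
    have h1 : U₀.ι (j u) = u.1 := by
      rw [← Scheme.Hom.comp_apply, Scheme.homOfLE_ι]
      rfl
    have h2 : w = j u := U₀.ι.isOpenEmbedding.injective (hwu.trans h1.symm)
    rw [← h2]
    exact hw
  refine ⟨X.basicOpen a, hU₀.basicOpen a, hxa, f.resLE V (X.basicOpen a) e, j ≫ π₀,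
    f.resLE_comp_ι e, ?_, ?_, inferInstance⟩
  · rw [Category.assoc, hπ₀, ← cancel_mono V.ι, Category.assoc, comm₀, Scheme.homOfLE_ι_assoc,
      f.resLE_comp_ι e]
  · rw [← Scheme.Hom.quasiFiniteLocus_eq_top_iff]
    ext u
    simp only [SetLike.mem_coe, Scheme.Hom.mem_quasiFiniteLocus,
      Scheme.Hom.quasiFiniteAt_comp_iff_of_isOpenImmersion]
    exact ⟨fun _ => trivial, fun _ => hj u⟩

end Groth.Agent.Lib.Helper18.Chev
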