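import Groth.Agent.Lib.Helper18.Chev.SchemeBound

set_option autoImplicit false
set_option linter.style.haveILetI false
universe u
open AlgebraicGeometry CategoryTheory CategoryTheory.Limits

namespace Groth.Agent.Lib.Helper18.Chev

/-- The fibres of affine `n`-space are irreducible. -/
theorem irreducibleSpace_fiber_affineSpace (n : Type u) [Finite n] (V : Scheme.{u}) (s : V) :
    IrreducibleSpace ((𝔸(n; V) ↘ V).fiber s) := by
  have hpb := AffineSpace.isPullback_map (n := n) (V.fromSpecResidueField s)
  let i1 : 𝔸(n; Spec (V.residueField s)) ≅ (𝔸(n; V) ↘ V).fiber s := hpb.isoPullback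
  let i2 : 𝔸(n; Spec (V.residueField s)) ≅ Spec (.of (MvPolynomial n (V.residueField s))) :=
    AffineSpace.SpecIso n (V.residueField s)
  let h : PrimeSpectrum (MvPolynomial n (V.residueField s)) ≃ₜ (𝔸(n; V) ↘ V).fiber s :=
    (i2.symm ≪≫ i1).hom.homeomorph
  haveI : IrreducibleSpace (PrimeSpectrum (MvPolynomial n (V.residueField s))) :=
    inferInstance
  exact h.irreducibleSpace_iff.1 inferInstance

end Groth.Agent.Lib.Helper18.Chev
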