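import Mathlib
import Groth.Agent.Lib.Helper18.Chev.AlgCore
import Groth.Agent.Lib.Helper24.LocalDim.Core
import Groth.Agent.Lib.lead.ResTrdegBridge
import Groth.Agent.S2680

set_option autoImplicit false
set_option linter.style.haveILetI false
set_option linter.unusedVariables false
universe u
open scoped TensorProduct

namespace Groth.Agent.Lib.Helper18.Chev

/-- Abstract form: `F` plays the role of the fibre ring `κ(p) ⊗ S`. -/
theorem trdeg_eq_of_fibreLike {R S κ F : Type u} [CommRing R] [CommRing S] [Field κ] [CommRing F]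
    [Algebra R S] [Algebra R κ] [Algebra κ F] [Algebra R F] [IsScalarTower R κ F]
    (j : S →ₐ[R] F)
    (p : Ideal R) [p.IsPrime] (q : Ideal S) [q.IsPrime] [q.LiesOver p]
    (hκ : RingHom.ker (algebraMap R κ) = p)
    (hκ' : ∀ k : κ, ∃ s t : R, algebraMap R κ t ≠ 0 ∧ k = algebraMap R κ s / algebraMap R κ t)
    (Q : Ideal F) [Q.IsPrime] (hQ : Q.comap j.toRingHom = q)
    (hF : ∀ x : F, ∃ r : R, r ∉ p ∧ ∃ s : S, r • x = j s) :
    Algebra.trdeg κ (FractionRing (F ⧸ Q)) = Algebra.trdeg (R ⧸ p) (S ⧸ q) := by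
  let L := FractionRing (F ⧸ Q)
  let c : F →+* L := (algebraMap (F ⧸ Q) L).comp (Ideal.Quotient.mk Q)
  have hc : ∀ x, c x = 0 ↔ x ∈ Q := by
    intro x
    show algebraMap (F ⧸ Q) L (Ideal.Quotient.mk Q x) = 0 ↔ _
    rw [map_eq_zero_iff _ (IsFractionRing.injective (F ⧸ Q) L)]
    exact Ideal.Quotient.eq_zero_iff_mem
  let a : R →+* κ := algebraMap R κ
  let b : S →+* L := c.comp j.toRingHom
  let ι : κ →+* L := algebraMap κ L
  have hιc : ∀ k : κ, ι k = c (algebraMap κ F k) := by
    intro k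
    show algebraMap κ L k = algebraMap (F ⧸ Q) L (Ideal.Quotient.mk Q (algebraMap κ F k))
    rw [IsScalarTower.algebraMap_apply κ (F ⧸ Q) L]
    rfl
  have hb : RingHom.ker b = q := by
    ext s
    rw [RingHom.mem_ker, ← hQ, Ideal.mem_comap]
    exact hc _
  have hsq : ι.comp a = b.comp (algebraMap R S) := by
    ext r
    show ι (algebraMap R κ r) = c (j (algebraMap R S r))
    rw [hιc, j.commutes, ← IsScalarTower.algebraMap_apply R κ F]
  have hcr : ∀ r : R, r ∉ p → c (algebraMap R F r) ≠ 0 := by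
    intro r hr h0
    rw [IsScalarTower.algebraMap_apply R κ F, ← hιc] at h0
    have : algebraMap R κ r = 0 := by
      by_contra hne
      exact (map_ne_zero ι).2 hne h0
    rw [← RingHom.mem_ker, hκ] at this
    exact hr this
  have hL : ∀ l : L, ∃ s t : S, b t ≠ 0 ∧ l = b s / b t := by
    intro l
    obtain ⟨x, y, hy, rfl⟩ := IsFractionRing.div_surjective (A := F ⧸ Q) l
    obtain ⟨x, rfl⟩ := Ideal.Quotient.mk_surjective x
    obtain ⟨y, rfl⟩ := Ideal.Quotient.mk_surjective y
    obtain ⟨r₁, hr₁, s₁, h₁⟩ := hF x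
    obtain ⟨r₂, hr₂, s₂, h₂⟩ := hF y
    have hy0 : c y ≠ 0 := by
      show algebraMap (F ⧸ Q) L _ ≠ 0
      exact (map_ne_zero_iff _ (IsFractionRing.injective (F ⧸ Q) L)).2 (nonZeroDivisors.ne_zero hy)
    have e₁ : c (algebraMap R F r₁) * c x = b s₁ := by
      rw [← map_mul, ← Algebra.smul_def, h₁]; rfl
    have e₂ : c (algebraMap R F r₂) * c y = b s₂ := by
      rw [← map_mul, ← Algebra.smul_def, h₂]; rfl
    have hbr : ∀ r : R, b (algebraMap R S r) = c (algebraMap R F r) := by
      intro r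
      show c (j (algebraMap R S r)) = _
      rw [j.commutes]
    refine ⟨s₁ * algebraMap R S r₂, s₂ * algebraMap R S r₁, ?_, ?_⟩
    · rw [map_mul, hbr, ← e₂]
      exact mul_ne_zero (mul_ne_zero (hcr r₂ hr₂) hy0) (hcr r₁ hr₁)
    · show c x / c y = _
      rw [map_mul, map_mul, hbr, hbr, ← e₁, ← e₂]
      have h1 := hcr r₁ hr₁
      have h2 := hcr r₂ hr₂
      rw [div_eq_div_iff hy0 (mul_ne_zero (mul_ne_zero h2 hy0) h1)]
      ring
  have key := Groth.Agent.Lib.lead.ResTrdegBridge.trdeg_eq_of_square p q a b ι hκ hb hsq hκ' hL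
  rw [← key]
  congr 1

/-- Quasi-finite at a prime ⇒ quasi-finite after inverting some element outside the prime. -/
theorem exists_away_quasiFinite {A B : Type*} [CommRing A] [CommRing B] [Algebra A B]
    [Algebra.FiniteType A B] (q : Ideal B) [q.IsPrime] [Algebra.QuasiFiniteAt A q] :
    ∃ g : B, g ∉ q ∧ Algebra.QuasiFinite A (Localization.Away g) := by
  obtain ⟨S', hS', r, hrp, H⟩ :=
    Algebra.QuasiFiniteAt.exists_fg_and_exists_notMem_and_awayMap_bijective (R := A) q
  have : Module.Finite A S' := ⟨(Submodule.fg_top _).mpr hS'⟩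
  have : Algebra.QuasiFinite A (Localization.Away r) := .trans _ S' _
  exact ⟨r.1, hrp, .of_surjective_algHom (Localization.awayMapₐ S'.val r) H.2⟩

/-- Transport of the height in the fibre along an equality of base points. -/
theorem height_fibre_congr {R A : Type u} [CommRing R] [CommRing A] [Algebra R A]
    (P : PrimeSpectrum A) (p' : PrimeSpectrum R)
    (h : PrimeSpectrum.comap (algebraMap R A) P = p') :
    Order.height (⟨P, h⟩ : PrimeSpectrum.comap (algebraMap R A) ⁻¹' {p'}) =
      Order.height (⟨P, rfl⟩ : PrimeSpectrum.comap (algebraMap R A) ⁻¹'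
        {PrimeSpectrum.comap (algebraMap R A) P}) := by
  subst h
  rfl

end Groth.Agent.Lib.Helper18.Chev
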