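import Mathlib.AlgebraicGeometry.Fiber
import Mathlib.AlgebraicGeometry.Morphisms.Affine
import Mathlib.AlgebraicGeometry.ResidueField

set_option autoImplicit false
set_option linter.style.haveILetI false
universe u
open AlgebraicGeometry CategoryTheory CategoryTheory.Limits

namespace Groth.Agent.Lib.Helper18.Chev

theorem fromSpecResidueField_appTop' {Y : Scheme.{u}} (y : Y) :
    (Y.fromSpecResidueField y).appTop =
      Y.Γevaluation y ≫ (Scheme.ΓSpecIso (Y.residueField y)).inv := by
  rw [Scheme.fromSpecResidueField, Scheme.Hom.comp_appTop, Scheme.fromSpecStalk_appTop]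
  simp only [Category.assoc]
  have h1 : (Spec (Y.presheaf.stalk y)).presheaf.map
      (homOfLE (le_top : (⊤ : (Spec (Y.presheaf.stalk y)).Opens) ≤ ⊤)).op = 𝟙 _ := by
    rw [← (Spec (Y.presheaf.stalk y)).presheaf.map_id]; rfl
  rw [h1, Category.id_comp, ← Scheme.ΓSpecIso_inv_naturality]
  rfl

/-- On an affine scheme every element of a residue field is a quotient of global sections. -/
theorem exists_Γevaluation_div {Y : Scheme.{u}} [IsAffine Y] (y : Y) (k : Y.residueField y) :
    ∃ a s : Γ(Y, ⊤), Y.Γevaluation y s ≠ 0 ∧ k * Y.Γevaluation y s = Y.Γevaluation y a := by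
  obtain ⟨z, rfl⟩ := Y.residue_surjective y k
  letI := TopCat.Presheaf.algebra_section_stalk Y.presheaf (U := ⊤) ⟨y, trivial⟩
  haveI := (isAffineOpen_top Y).isLocalization_stalk ⟨y, trivial⟩
  obtain ⟨⟨a, s⟩, h⟩ := IsLocalization.surj
    ((isAffineOpen_top Y).primeIdealOf ⟨y, trivial⟩).asIdeal.primeCompl z
  refine ⟨a, s.1, ?_, ?_⟩
  · have hu : IsUnit (algebraMap Γ(Y, ⊤) (Y.presheaf.stalk y) s.1) :=
      IsLocalization.map_units _ s
    have hu2 : IsUnit (Y.residue y (algebraMap Γ(Y, ⊤) (Y.presheaf.stalk y) s.1)) :=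
      hu.map (Y.residue y).hom
    exact hu2.ne_zero
  · have := congrArg (Y.residue y).hom h
    rw [map_mul] at this
    exact this

/-- Every global section of the fibre of a morphism of affine schemes comes from the source after
multiplication by a global section of the base that does not vanish at the point. -/
theorem exists_scale_mem_range_fiberι {X Y : Scheme.{u}} [IsAffine X] [IsAffine Y] (f : X ⟶ Y)
    (y : Y) (r : Γ(pullback f (Y.fromSpecResidueField y), ⊤)) :
    ∃ s : Γ(Y, ⊤), Y.Γevaluation y s ≠ 0 ∧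
      (pullback.fst f (Y.fromSpecResidueField y)).appTop (f.appTop s) * r ∈
        Set.range (pullback.fst f (Y.fromSpecResidueField y)).appTop := by
  have H := isPushout_appTop_of_isPullback
    (IsPullback.of_hasPullback f (Y.fromSpecResidueField y))
  have hcl := CommRingCat.closure_range_union_range_eq_top_of_isPushout H
  have hr : r ∈ Subring.closure
      (Set.range (pullback.fst f (Y.fromSpecResidueField y)).appTop ∪
        Set.range (pullback.snd f (Y.fromSpecResidueField y)).appTop) := by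
    rw [hcl]; trivial
  set γ := (pullback.fst f (Y.fromSpecResidueField y)).appTop with hγ
  have hw : f.appTop ≫ γ = (Y.fromSpecResidueField y).appTop ≫
      (pullback.snd f (Y.fromSpecResidueField y)).appTop := H.w
  induction hr using Subring.closure_induction with
  | mem x hx =>
    rcases hx with ⟨b, rfl⟩ | ⟨k', rfl⟩
    · exact ⟨1, by rw [map_one]; exact one_ne_zero, ⟨b, by rw [map_one, map_one, one_mul]⟩⟩
    · obtain ⟨a, s, hs, h⟩ := exists_Γevaluation_div y ((Scheme.ΓSpecIso _).hom k')
      refine ⟨s, hs, f.appTop a, ?_⟩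
      have e1 : ∀ t : Γ(Y, ⊤), γ (f.appTop t) =
          (pullback.snd f (Y.fromSpecResidueField y)).appTop
            ((Scheme.ΓSpecIso (Y.residueField y)).inv (Y.Γevaluation y t)) := by
        intro t
        have h1 := congr($hw t)
        rw [fromSpecResidueField_appTop'] at h1
        exact h1
      rw [e1, e1, ← h, map_mul, map_mul]
      have e2 : (Scheme.ΓSpecIso (Y.residueField y)).inv
          ((Scheme.ΓSpecIso (Y.residueField y)).hom k') = k' :=
        congr($(Iso.hom_inv_id (Scheme.ΓSpecIso (Y.residueField y))) k')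
      rw [e2, mul_comm]
  | zero => exact ⟨1, by rw [map_one]; exact one_ne_zero, ⟨0, by rw [map_zero, mul_zero]⟩⟩
  | one => exact ⟨1, by rw [map_one]; exact one_ne_zero, ⟨1, by rw [map_one, map_one, map_one, mul_one]⟩⟩
  | add x z _ _ hx hz =>
    obtain ⟨s₁, h₁, b₁, e₁⟩ := hx
    obtain ⟨s₂, h₂, b₂, e₂⟩ := hz
    refine ⟨s₁ * s₂, by rw [map_mul]; exact mul_ne_zero h₁ h₂,
      f.appTop s₂ * b₁ + f.appTop s₁ * b₂, ?_⟩
    rw [map_add, map_mul, map_mul, e₁, e₂]
    simp only [map_mul]
    ring
  | neg x _ hx =>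
    obtain ⟨s₁, h₁, b₁, e₁⟩ := hx
    exact ⟨s₁, h₁, -b₁, by rw [map_neg, e₁]; ring⟩
  | mul x z _ _ hx hz =>
    obtain ⟨s₁, h₁, b₁, e₁⟩ := hx
    obtain ⟨s₂, h₂, b₂, e₂⟩ := hz
    refine ⟨s₁ * s₂, by rw [map_mul]; exact mul_ne_zero h₁ h₂, b₁ * b₂, ?_⟩
    rw [map_mul, e₁, e₂]
    simp only [map_mul]
    ring

end Groth.Agent.Lib.Helper18.Chev
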