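import Mathlib
import Groth.Agent.Lib.Helper18.Chev.FibreLike
import Groth.Agent.Lib.Helper7.AffineChain
import Groth.Agent.Lib.Helper24.LocalDim.Core
import Groth.Agent.S2680

/-!
# Local dimension of the fibre = residue transcendence degree + height in the fibre (helper18)
-/

set_option autoImplicit false
set_option linter.style.haveILetI false
set_option linter.unusedVariables false
universe u

namespace Groth.Agent.Lib.Helper18.Chev

/-- If the fibre ring `κ(p) ⊗ S` has local dimension `n` at the prime `Q` over `q`, then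
`n = e + h` with `e = trdeg (R/p) (S/q)` and `h` the height of `q` in its fibre. -/
theorem fibre_localDim_split (R S : Type u) [CommRing R] [CommRing S]
    [Algebra R S] [Algebra.FiniteType R S] (p : Ideal R) [p.IsPrime] (q : Ideal S) [q.IsPrime]
    [q.LiesOver p] (Q : PrimeSpectrum (p.Fiber S))
    (hQ : Q.asIdeal.comap (Algebra.TensorProduct.includeRight.toRingHom) = q) (n : ℕ)
    (hdim : FlatMor.localDim (PrimeSpectrum (p.Fiber S)) Q = (n : WithBot ℕ∞)) :
    ∃ e h : ℕ, n = e + h ∧ Algebra.trdeg (R ⧸ p) (S ⧸ q) = e ∧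
      Order.height (⟨⟨q, inferInstance⟩, rfl⟩ : PrimeSpectrum.comap (algebraMap R S) ⁻¹'
        {PrimeSpectrum.comap (algebraMap R S) ⟨q, inferInstance⟩}) = h := by
  classical
  have h1 := Groth.Agent.Lib.Helper24.LocalDim.localDim_eq p.ResidueField (p.Fiber S) Q
  rw [hdim] at h1
  have h1' : (n : ℕ∞) = Order.height Q + Order.coheight Q := by exact_mod_cast h1
  obtain ⟨r, hr⟩ : ∃ r : ℕ, Order.height Q = r := by
    have : Order.height Q ≠ ⊤ := by
      intro h; rw [h, top_add] at h1'; exact ENat.natCast_ne_top n h1'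
    exact ⟨_, (ENat.natCast_toNat this).symm⟩
  obtain ⟨e, he⟩ : ∃ e : ℕ, Order.coheight Q = e := by
    have : Order.coheight Q ≠ ⊤ := by
      intro h; rw [h, add_top] at h1'; exact ENat.natCast_ne_top n h1'
    exact ⟨_, (ENat.natCast_toNat this).symm⟩
  have hn : n = e + r := by
    rw [hr, he] at h1'
    have : (n : ℕ∞) = ((r + e : ℕ) : ℕ∞) := by rw [h1']; push_cast; rfl
    have := ENat.natCast_inj.1 this
    omega
  haveI hQp : Q.asIdeal.IsPrime := Q.isPrime
  let P : PrimeSpectrum S := ⟨q, inferInstance⟩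
  let p₀ : PrimeSpectrum R := ⟨p, inferInstance⟩
  have hPp : PrimeSpectrum.comap (algebraMap R S) P = p₀ :=
    PrimeSpectrum.ext (q.over_def p).symm
  have hiso : (PrimeSpectrum.preimageOrderIsoFiber R S p₀).symm Q = ⟨P, hPp⟩ := by
    apply Subtype.ext
    apply PrimeSpectrum.ext
    exact hQ
  have hr' : Order.height (⟨P, hPp⟩ : PrimeSpectrum.comap (algebraMap R S) ⁻¹' {p₀}) = r := by
    rw [← hiso, Order.height_orderIso, hr]
  rw [height_fibre_congr P p₀ hPp] at hr'
  have hco := Groth.Agent.Lib.Helper7.AffChain.ringKrullDim_quotient_eq_coheight Q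
  haveI : IsDomain (p.Fiber S ⧸ Q.asIdeal) := Ideal.Quotient.isDomain _
  obtain ⟨n', hn1, hn2, -⟩ := Groth.Agent.S2680.result p.ResidueField (p.Fiber S ⧸ Q.asIdeal)
  have hen' : n' = e := by
    rw [hco, he] at hn2
    exact_mod_cast hn2.symm
  subst hen'
  have htr : Algebra.trdeg (R ⧸ p) (S ⧸ q) = n' := by
    rw [← hn1]
    symm
    refine trdeg_eq_of_fibreLike (R := R) (S := S) (κ := p.ResidueField) (F := p.Fiber S)
      Algebra.TensorProduct.includeRight p q ?_ ?_ Q.asIdeal hQ ?_
    · exact Ideal.ker_algebraMap_residueField p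
    · intro k
      obtain ⟨x, y, hy, rfl⟩ := IsFractionRing.div_surjective (A := R ⧸ p) k
      obtain ⟨x, rfl⟩ := Ideal.Quotient.mk_surjective x
      obtain ⟨y, rfl⟩ := Ideal.Quotient.mk_surjective y
      refine ⟨x, y, ?_, ?_⟩
      · rw [IsScalarTower.algebraMap_apply R (R ⧸ p) p.ResidueField]
        exact (map_ne_zero_iff _ (IsFractionRing.injective (R ⧸ p) p.ResidueField)).2
          (nonZeroDivisors.ne_zero hy)
      · rw [IsScalarTower.algebraMap_apply R (R ⧸ p) p.ResidueField,
          IsScalarTower.algebraMap_apply R (R ⧸ p) p.ResidueField]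
        rfl
    · intro x
      obtain ⟨r, hr, s, hs⟩ := Ideal.Fiber.exists_smul_eq_one_tmul p x
      exact ⟨r, hr, s, hs⟩
  exact ⟨n', r, hn, htr, hr'⟩

end Groth.Agent.Lib.Helper18.Chev
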