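import Mathlib

/-!
# Algebra for the local structure theorem (helper18)

* polynomial rings are standard smooth of relative dimension `n`;
* `A → B' ⊗[B] A` is étale when `B → B'` is;
* a criterion for the residue field extension at a prime of a localisation of `B' ⊗[B] A`
  to be trivial over `A`.
-/

set_option autoImplicit false
set_option linter.style.haveILetI false
set_option linter.unusedVariables false
universe u
open TensorProduct

namespace Groth.Agent.Lib.Helper18.Chev

section smooth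

variable (R : Type u) [CommRing R] (n : ℕ)

/-- The presentation of `R[X₁..Xₙ]/(∅)` with no relations. -/
noncomputable def preMv : Algebra.PreSubmersivePresentation R
    (MvPolynomial (Fin n) R ⧸ Ideal.span (Set.range
      (fun i : PEmpty.{1} => (i.elim : MvPolynomial (Fin n) R))))
    (Fin n) PEmpty.{1} :=
  Algebra.PreSubmersivePresentation.naive (fun i => i.elim) (fun i => i.elim)

noncomputable def subMv : Algebra.SubmersivePresentation R
    (MvPolynomial (Fin n) R ⧸ Ideal.span (Set.range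
      (fun i : PEmpty.{1} => (i.elim : MvPolynomial (Fin n) R))))
    (Fin n) PEmpty.{1} :=
  { preMv R n with
    jacobian_isUnit := by
      rw [Algebra.PreSubmersivePresentation.jacobian_eq_jacobiMatrix_det]
      have : (preMv R n).jacobiMatrix.det = 1 := Matrix.det_isEmpty
      rw [this, map_one]
      exact isUnit_one }

theorem subMv_dimension : (subMv R n).dimension = n := by
  simp [Algebra.Presentation.dimension]

noncomputable def eqvMv : (MvPolynomial (Fin n) R ⧸ Ideal.span (Set.range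
      (fun i : PEmpty.{1} => (i.elim : MvPolynomial (Fin n) R)))) ≃ₐ[R] MvPolynomial (Fin n) R :=
  (Ideal.quotientEquivAlgOfEq R (by simp : Ideal.span (Set.range
    (fun i : PEmpty.{1} => (i.elim : MvPolynomial (Fin n) R))) = ⊥)).trans
    (AlgEquiv.quotientBot R (MvPolynomial (Fin n) R))

instance isStandardSmoothOfRelativeDimension_mvPolynomial :
    Algebra.IsStandardSmoothOfRelativeDimension n R (MvPolynomial (Fin n) R) :=
  ((subMv R n).ofAlgEquiv (eqvMv R n)).isStandardSmoothOfRelativeDimension (by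
    have := subMv_dimension R n
    simpa [Algebra.Presentation.dimension] using this)

open AlgebraicGeometry CategoryTheory in
/-- `𝔸ⁿ_R → Spec R` is smooth of relative dimension `n`. -/
theorem smoothOfRelativeDimension_spec_mvPolynomial :
    SmoothOfRelativeDimension n
      (Spec.map (CommRingCat.ofHom (MvPolynomial.C : R →+* MvPolynomial (Fin n) R))) := by
  rw [HasRingHomProperty.Spec_iff (P := @SmoothOfRelativeDimension n)]
  apply RingHom.locally_of RingHom.isStandardSmoothOfRelativeDimension_respectsIso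
  show (algebraMap R (MvPolynomial (Fin n) R)).IsStandardSmoothOfRelativeDimension n
  rw [RingHom.isStandardSmoothOfRelativeDimension_algebraMap]
  infer_instance

end smooth

section tensor

variable {B B' A : Type u} [CommRing B] [CommRing B'] [CommRing A] [Algebra B B'] [Algebra B A]

theorem tmul_algebraMap_comm (b : B) :
    (algebraMap B B' b ⊗ₜ[B] (1 : A) : B' ⊗[B] A) = (1 : B') ⊗ₜ[B] algebraMap B A b := by
  rw [Algebra.algebraMap_eq_smul_one, Algebra.algebraMap_eq_smul_one, TensorProduct.smul_tmul]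

theorem includeRight_etale [Algebra.Etale B B'] :
    (Algebra.TensorProduct.includeRight : A →ₐ[B] B' ⊗[B] A).toRingHom.Etale := by
  have h1 : (algebraMap A (A ⊗[B] B')).Etale := RingHom.etale_algebraMap.2 inferInstance
  have h2 : (Algebra.TensorProduct.includeRight : A →ₐ[B] B' ⊗[B] A).toRingHom =
      ((Algebra.TensorProduct.comm B A B').toRingEquiv : A ⊗[B] B' →+* B' ⊗[B] A).comp
        (algebraMap A (A ⊗[B] B')) := by
    ext a
    simp [Algebra.TensorProduct.algebraMap_apply]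
  rw [h2]
  exact RingHom.Etale.stableUnderComposition _ _ h1
    (RingHom.Etale.of_bijective (Algebra.TensorProduct.comm B A B').bijective)

end tensor

section frac

variable {A C : Type u} [CommRing A] [CommRing C] (φ : A →+* C) (Q : Ideal C) [Q.IsPrime]

/-- `c` is, modulo `Q`, a fraction of elements coming from `A` with denominator outside `Q`. -/
def InG (c : C) : Prop := ∃ a s : A, φ s ∉ Q ∧ φ s * c - φ a ∈ Q

variable {φ Q}

theorem inG_map (a : A) : InG φ Q (φ a) := ⟨a, 1, by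
  rw [map_one]; exact fun h => (Ideal.IsPrime.ne_top ‹_›) ((Ideal.eq_top_iff_one Q).2 h), by
  rw [map_one, one_mul, sub_self]; exact Q.zero_mem⟩

theorem inG_zero : InG φ Q 0 := by simpa using inG_map (φ := φ) (Q := Q) 0

theorem inG_add {c₁ c₂ : C} (h₁ : InG φ Q c₁) (h₂ : InG φ Q c₂) : InG φ Q (c₁ + c₂) := by
  obtain ⟨a₁, s₁, hs₁, h₁⟩ := h₁
  obtain ⟨a₂, s₂, hs₂, h₂⟩ := h₂
  refine ⟨a₁ * s₂ + a₂ * s₁, s₁ * s₂, ?_, ?_⟩
  · rw [map_mul]
    exact fun h => (Ideal.IsPrime.mem_or_mem ‹_› h).elim hs₁ hs₂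
  · have : φ (s₁ * s₂) * (c₁ + c₂) - φ (a₁ * s₂ + a₂ * s₁) =
        φ s₂ * (φ s₁ * c₁ - φ a₁) + φ s₁ * (φ s₂ * c₂ - φ a₂) := by
      simp only [map_mul, map_add]; ring
    rw [this]
    exact Q.add_mem (Q.mul_mem_left _ h₁) (Q.mul_mem_left _ h₂)

theorem inG_mul {c₁ c₂ : C} (h₁ : InG φ Q c₁) (h₂ : InG φ Q c₂) : InG φ Q (c₁ * c₂) := by
  obtain ⟨a₁, s₁, hs₁, h₁⟩ := h₁
  obtain ⟨a₂, s₂, hs₂, h₂⟩ := h₂
  refine ⟨a₁ * a₂, s₁ * s₂, ?_, ?_⟩
  · rw [map_mul]
    exact fun h => (Ideal.IsPrime.mem_or_mem ‹_› h).elim hs₁ hs₂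
  · have : φ (s₁ * s₂) * (c₁ * c₂) - φ (a₁ * a₂) =
        (φ s₂ * c₂) * (φ s₁ * c₁ - φ a₁) + φ a₁ * (φ s₂ * c₂ - φ a₂) := by
      simp only [map_mul]; ring
    rw [this]
    exact Q.add_mem (Q.mul_mem_left _ h₁) (Q.mul_mem_left _ h₂)

theorem inG_pow {c : C} (h : InG φ Q c) (m : ℕ) : InG φ Q (c ^ m) := by
  induction m with
  | zero => simpa using inG_map (φ := φ) (Q := Q) 1
  | succ m ih => rw [pow_succ]; exact inG_mul ih h

/-- Division by an element outside `Q`. -/
theorem inG_of_mul_eq {u t₁ t₂ : C} (h₁ : InG φ Q t₁) (h₂ : InG φ Q t₂) (ht₁ : t₁ ∉ Q)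
    (h : u * t₁ = t₂) : InG φ Q u := by
  obtain ⟨a₁, s₁, hs₁, h₁⟩ := h₁
  obtain ⟨a₂, s₂, hs₂, h₂⟩ := h₂
  have ha₁ : φ a₁ ∉ Q := by
    intro ha
    have : φ s₁ * t₁ ∈ Q := by
      have := Q.add_mem h₁ ha
      rwa [sub_add_cancel] at this
    exact (Ideal.IsPrime.mem_or_mem ‹_› this).elim hs₁ ht₁
  refine ⟨s₁ * a₂, s₂ * a₁, ?_, ?_⟩
  · rw [map_mul]
    exact fun h => (Ideal.IsPrime.mem_or_mem ‹_› h).elim hs₂ ha₁
  · have : φ (s₂ * a₁) * u - φ (s₁ * a₂) =
        φ s₁ * (φ s₂ * t₂ - φ a₂) - (φ s₂ * u) * (φ s₁ * t₁ - φ a₁) := by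
      simp only [map_mul, ← h]; ring
    rw [this]
    exact Q.sub_mem (Q.mul_mem_left _ h₂) (Q.mul_mem_left _ h₁)

end frac

section main

variable {B B' A : Type u} [CommRing B] [CommRing B'] [CommRing A] [Algebra B B'] [Algebra B A]

/-- In a localisation `C = (B' ⊗[B] A)_e`, every element is, modulo the prime `Q`, a fraction of
elements of `A`, provided this holds for the elements of `B'` over `B`. -/
theorem inG_localization_tensor (e : B' ⊗[B] A) (C : Type u) [CommRing C] [Algebra (B' ⊗[B] A) C]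
    [IsLocalization.Away e C] (Q : Ideal C) [Q.IsPrime]
    (H : ∀ b' : B', ∃ b₁ b₂ : B,
      algebraMap (B' ⊗[B] A) C (algebraMap B B' b₂ ⊗ₜ 1) ∉ Q ∧
      algebraMap (B' ⊗[B] A) C ((algebraMap B B' b₂ * b' - algebraMap B B' b₁) ⊗ₜ 1) ∈ Q)
    (c : C) :
    InG ((algebraMap (B' ⊗[B] A) C).comp
      (Algebra.TensorProduct.includeRight : A →ₐ[B] B' ⊗[B] A).toRingHom) Q c := by
  set φ : A →+* C := (algebraMap (B' ⊗[B] A) C).comp
      (Algebra.TensorProduct.includeRight : A →ₐ[B] B' ⊗[B] A).toRingHom with hφ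
  have hφa : ∀ a : A, φ a = algebraMap (B' ⊗[B] A) C (1 ⊗ₜ a) := fun a => rfl
  have hT : ∀ t : B' ⊗[B] A, InG φ Q (algebraMap (B' ⊗[B] A) C t) := by
    intro t
    induction t using TensorProduct.induction_on with
    | zero => rw [map_zero]; exact inG_zero
    | add x y hx hy => rw [map_add]; exact inG_add hx hy
    | tmul b' a =>
      have h1 : (b' ⊗ₜ[B] a : B' ⊗[B] A) = (b' ⊗ₜ[B] (1 : A)) * ((1 : B') ⊗ₜ[B] a) := by
        rw [Algebra.TensorProduct.tmul_mul_tmul, mul_one, one_mul]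
      rw [h1, map_mul]
      refine inG_mul ?_ ?_
      · obtain ⟨b₁, b₂, hb₂, hb⟩ := H b'
        refine ⟨algebraMap B A b₁, algebraMap B A b₂, ?_, ?_⟩
        · rw [hφa, ← tmul_algebraMap_comm]
          exact hb₂
        · have : φ (algebraMap B A b₂) * algebraMap (B' ⊗[B] A) C (b' ⊗ₜ[B] 1) -
              φ (algebraMap B A b₁) =
              algebraMap (B' ⊗[B] A) C
                ((algebraMap B B' b₂ * b' - algebraMap B B' b₁) ⊗ₜ 1) := by
            rw [hφa, hφa, ← tmul_algebraMap_comm, ← tmul_algebraMap_comm, ← map_mul, ← map_sub,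
              Algebra.TensorProduct.tmul_mul_tmul, mul_one, ← TensorProduct.sub_tmul]
          rw [this]
          exact hb
      · rw [← hφa]; exact inG_map a
  obtain ⟨⟨t, ⟨_, m, rfl⟩⟩, ht⟩ := IsLocalization.surj (Submonoid.powers e) c
  simp only at ht
  refine inG_of_mul_eq (hT (e ^ m)) (hT t) ?_ ht
  intro hmem
  have hu : IsUnit (algebraMap (B' ⊗[B] A) C (e ^ m)) :=
    IsLocalization.map_units C (⟨e ^ m, m, rfl⟩ : Submonoid.powers e)
  exact (Ideal.IsPrime.ne_top ‹_›) (Ideal.eq_top_of_isUnit_mem Q hmem hu)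

end main

end Groth.Agent.Lib.Helper18.Chev
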