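import Mathlib
import Groth.Agent.Lib.Helper18.Chev.LocalStructAlg

/-!
# Surjectivity of residue field maps for `Spec.map` (helper18)
-/

set_option autoImplicit false
set_option linter.style.haveILetI false
set_option linter.unusedVariables false
universe u
open AlgebraicGeometry CategoryTheory

namespace Groth.Agent.Lib.Helper18.Chev

variable {A C : CommRingCat.{u}} (φ : A ⟶ C) (x' : Spec C)

/-- The evaluation `C → κ(x')` for a point of `Spec C`. -/
noncomputable def evSpec (C : CommRingCat.{u}) (x' : Spec C) : C →+* (Spec C).residueField x' :=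
  ((Scheme.ΓSpecIso C).inv ≫ (Spec C).Γevaluation x').hom

theorem evSpec_eq (C : CommRingCat.{u}) (x' : Spec C) (c : C) :
    evSpec C x' c = (Scheme.Spec.residueFieldIso C x').inv
      (algebraMap C x'.asIdeal.ResidueField c) := by
  have h := Scheme.Spec.algebraMap_residueFieldIso_inv C x'
  have h2 := congrArg (fun ψ => ψ.hom c) h
  exact h2.symm

theorem algebraMap_residueField_eq_zero_iff {C : Type u} [CommRing C] (I : Ideal C) [I.IsPrime]
    (c : C) : algebraMap C I.ResidueField c = 0 ↔ c ∈ I := by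
  rw [← RingHom.mem_ker, Ideal.ker_algebraMap_residueField]

theorem exists_residueField_div {C : Type u} [CommRing C] (I : Ideal C) [I.IsPrime]
    (w : I.ResidueField) :
    ∃ a b : C, b ∉ I ∧ w = algebraMap C I.ResidueField a / algebraMap C I.ResidueField b := by
  obtain ⟨a, b, hb, rfl⟩ := IsFractionRing.div_surjective (A := C ⧸ I) w
  obtain ⟨a, rfl⟩ := Ideal.Quotient.mk_surjective a
  obtain ⟨b, rfl⟩ := Ideal.Quotient.mk_surjective b
  refine ⟨a, b, ?_, ?_⟩
  · intro hmem
    have : Ideal.Quotient.mk I b = 0 := Ideal.Quotient.eq_zero_iff_mem.2 hmem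
    exact nonZeroDivisors.ne_zero hb this
  · rw [IsScalarTower.algebraMap_apply C (C ⧸ I) I.ResidueField,
      IsScalarTower.algebraMap_apply C (C ⧸ I) I.ResidueField]
    rfl

/-- The comparison isomorphism as a ring homomorphism of fields. -/
noncomputable def jSpec (C : CommRingCat.{u}) (x' : Spec C) :
    x'.asIdeal.ResidueField →+* (Spec C).residueField x' :=
  (Scheme.Spec.residueFieldIso C x').inv.hom

theorem jSpec_surjective (C : CommRingCat.{u}) (x' : Spec C) :
    Function.Surjective (jSpec C x') :=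
  (ConcreteCategory.bijective_of_isIso (Scheme.Spec.residueFieldIso C x').inv).2

theorem evSpec_eq' (C : CommRingCat.{u}) (x' : Spec C) (c : C) :
    evSpec C x' c = jSpec C x' (algebraMap C x'.asIdeal.ResidueField c) := evSpec_eq C x' c

theorem evSpec_eq_zero_iff (C : CommRingCat.{u}) (x' : Spec C) (c : C) :
    evSpec C x' c = 0 ↔ c ∈ x'.asIdeal := by
  rw [evSpec_eq', map_eq_zero]
  exact algebraMap_residueField_eq_zero_iff x'.asIdeal c

theorem exists_evSpec_div (C : CommRingCat.{u}) (x' : Spec C) (z : (Spec C).residueField x') :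
    ∃ c₁ c₂ : C, evSpec C x' c₂ ≠ 0 ∧ z = evSpec C x' c₁ / evSpec C x' c₂ := by
  obtain ⟨w, rfl⟩ := jSpec_surjective C x' z
  obtain ⟨a, b, hb, rfl⟩ := exists_residueField_div x'.asIdeal w
  refine ⟨a, b, ?_, ?_⟩
  · rw [Ne, evSpec_eq_zero_iff]
    exact hb
  · rw [evSpec_eq', evSpec_eq', map_div₀]

theorem evSpec_naturality (a : A) :
    evSpec C x' (φ.hom a) =
      ((Spec.map φ).residueFieldMap x').hom (evSpec A ((Spec.map φ) x') a) := by
  have h1 : φ ≫ (Scheme.ΓSpecIso C).inv = (Scheme.ΓSpecIso A).inv ≫ (Spec.map φ).appTop :=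
    (Scheme.ΓSpecIso_inv_naturality φ)
  have h2 := Scheme.Γevaluation_naturality (Spec.map φ) x'
  have h3 : φ ≫ (Scheme.ΓSpecIso C).inv ≫ (Spec C).Γevaluation x' =
      ((Scheme.ΓSpecIso A).inv ≫ (Spec A).Γevaluation ((Spec.map φ) x')) ≫
        (Spec.map φ).residueFieldMap x' := by
    calc φ ≫ (Scheme.ΓSpecIso C).inv ≫ (Spec C).Γevaluation x'
        = (φ ≫ (Scheme.ΓSpecIso C).inv) ≫ (Spec C).Γevaluation x' := by rw [Category.assoc]
      _ = ((Scheme.ΓSpecIso A).inv ≫ (Spec.map φ).appTop) ≫ (Spec C).Γevaluation x' := by rw [h1]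
      _ = (Scheme.ΓSpecIso A).inv ≫ ((Spec.map φ).appTop ≫ (Spec C).Γevaluation x') := by
          rw [Category.assoc]
      _ = (Scheme.ΓSpecIso A).inv ≫ ((Spec A).Γevaluation ((Spec.map φ) x') ≫
            (Spec.map φ).residueFieldMap x') := by rw [h2]
      _ = _ := by rw [Category.assoc]
  exact congrArg (fun ψ => ψ.hom a) h3

/-- If every element of `C` is, modulo `x'`, a fraction of elements coming from `A`, then the
residue field map at `x'` of `Spec C → Spec A` is surjective. -/
theorem residueFieldMap_surjective_of_inG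
    (H : ∀ c : C, InG φ.hom x'.asIdeal c) :
    Function.Surjective ((Spec.map φ).residueFieldMap x').hom := by
  set ρ := ((Spec.map φ).residueFieldMap x').hom with hρ
  have hev : ∀ c : C, evSpec C x' c ∈ ρ.fieldRange := by
    intro c
    obtain ⟨a, s, hs, hsa⟩ := H c
    have h1 : evSpec C x' (φ.hom s) * evSpec C x' c = evSpec C x' (φ.hom a) := by
      have := (evSpec_eq_zero_iff C x' _).2 hsa
      rw [map_sub, map_mul, sub_eq_zero] at this
      exact this
    have h2 : evSpec C x' (φ.hom s) ≠ 0 := by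
      rw [Ne, evSpec_eq_zero_iff]; exact hs
    have h3 : evSpec C x' c = evSpec C x' (φ.hom a) / evSpec C x' (φ.hom s) := by
      rw [eq_div_iff h2, mul_comm]; exact h1
    rw [h3, evSpec_naturality, evSpec_naturality]
    exact div_mem ⟨_, rfl⟩ ⟨_, rfl⟩
  intro z
  obtain ⟨c₁, c₂, -, rfl⟩ := exists_evSpec_div C x' z
  have := div_mem (hev c₁) (hev c₂)
  exact this

end Groth.Agent.Lib.Helper18.Chev
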