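import Mathlib
import Groth.Agent.Lib.Helper18.Chev.Bridge
import Groth.Agent.Lib.Helper18.Chev.ResFieldSurj
import Groth.Agent.Lib.Helper18.Chev.FibreLike

set_option autoImplicit false
set_option linter.style.haveILetI false
set_option linter.unusedVariables false
universe u
open AlgebraicGeometry CategoryTheory Groth.Agent.Lib.lead Groth.Agent.Lib.Helper24 TensorProduct

namespace Groth.Agent.Lib.Helper18.Chev

variable {U V : Scheme.{u}} [IsAffine U] [IsAffine V]

/-!
# Local structure of morphisms locally of finite type (helper18)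

`X' → X` étale with trivial residue field extension at `x'`, `X' → Y` finite with `x'` the only
point over its image, `Y → S` smooth of relative dimension `dim_x X_{f x}` (Stacks 052E without the
refinements on `S'` and on geometric integrality).
-/

/-- Ring-level form of `exists_hom_affineSpace_quasiFiniteAt`. -/
theorem exists_vec_quasiFiniteAt_of_fibreDimAt (g : U ⟶ V) [LocallyOfFiniteType g] (x : U) (d : ℕ)
    (hd : FlatMor.fibreDimAt g x = d) :
    letI : Algebra Γ(V, ⊤) Γ(U, ⊤) := g.appTop.hom.toAlgebra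
    ∃ c : Fin d → Γ(U, ⊤), ∀ P : PrimeSpectrum Γ(U, ⊤), P = U.isoSpec.hom x →
      (MvPolynomial.aeval c : MvPolynomial (Fin d) Γ(V, ⊤) →ₐ[Γ(V, ⊤)] Γ(U, ⊤)).toRingHom.QuasiFiniteAt
        P.asIdeal := by
  letI : Algebra Γ(V, ⊤) Γ(U, ⊤) := g.appTop.hom.toAlgebra
  have halg : algebraMap Γ(V, ⊤) Γ(U, ⊤) = g.appTop.hom := rfl
  haveI : Algebra.FiniteType Γ(V, ⊤) Γ(U, ⊤) :=
    (HasRingHomProperty.iff_of_isAffine (P := @LocallyOfFiniteType)).1 ‹_›
  set P : PrimeSpectrum Γ(U, ⊤) := U.isoSpec.hom x with hP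
  set p : Ideal Γ(V, ⊤) := (V.isoSpec.hom (g x)).asIdeal with hp
  haveI : p.IsPrime := (V.isoSpec.hom (g x)).2
  haveI : P.asIdeal.LiesOver p := ⟨by
    rw [hp, ← comap_isoSpec]
    rfl⟩
  have he := tr_eq_trdeg g x halg p hp
  obtain ⟨r, hr⟩ := FibreDimFormula.exists_nat_G g x
  have hr' := G_eq_height g x halg
  rw [hr] at hr'
  have hd' : FibreDim.tr g x + r = d := by
    have h1 := FibreDimFormula.fibreDimAt_eq g x r hr
    rw [hd] at h1
    exact_mod_cast h1.symm
  obtain ⟨c, hc⟩ := exists_vec_quasiFiniteAt P p (FibreDim.tr g x) r he hr'.symm (finCongr hd')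
  exact ⟨c, fun P' hP' => by subst hP'; exact hc⟩


/-- Local structure, affine case. -/
theorem local_structure_affine (g₀ : U ⟶ V) [LocallyOfFiniteType g₀] (x₀ : U) (n : ℕ)
    (hn : FlatMor.fibreDimAt g₀ x₀ = n) :
    ∃ (X' Y : Scheme.{u}) (g : X' ⟶ U) (π : X' ⟶ Y) (h : Y ⟶ V) (x' : X'),
      g ≫ g₀ = π ≫ h ∧ Etale g ∧ g x' = x₀ ∧
      Function.Surjective (g.residueFieldMap x') ∧ IsFinite π ∧ SmoothOfRelativeDimension n h ∧
      ∀ z : ↑X', π z = π x' → z = x' := by
  letI algRA : Algebra Γ(V, ⊤) Γ(U, ⊤) := g₀.appTop.hom.toAlgebra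
  have halg : algebraMap Γ(V, ⊤) Γ(U, ⊤) = g₀.appTop.hom := rfl
  haveI : Algebra.FiniteType Γ(V, ⊤) Γ(U, ⊤) :=
    (HasRingHomProperty.iff_of_isAffine (P := @LocallyOfFiniteType)).1 ‹_›
  obtain ⟨c, hc⟩ := exists_vec_quasiFiniteAt_of_fibreDimAt g₀ x₀ n hn
  set P : PrimeSpectrum Γ(U, ⊤) := U.isoSpec.hom x₀ with hP
  have hcP := hc P rfl
  -- the polynomial ring
  let R := Γ(V, ⊤)
  let A := Γ(U, ⊤)
  let B := MvPolynomial (Fin n) R
  let ψ : B →ₐ[R] A := MvPolynomial.aeval c
  letI algBA : Algebra B A := ψ.toRingHom.toAlgebra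
  haveI : IsScalarTower R B A := IsScalarTower.of_algebraMap_eq fun x => (ψ.commutes x).symm
  haveI : Algebra.FiniteType B A := Algebra.FiniteType.of_restrictScalars_finiteType R _ _
  let q : Ideal A := P.asIdeal
  haveI : q.IsPrime := P.2
  let p : Ideal B := q.under B
  haveI : p.IsPrime := Ideal.IsPrime.under B q
  haveI : q.LiesOver p := ⟨rfl⟩
  haveI : Algebra.QuasiFiniteAt B q := hcP
  obtain ⟨B', _, _, hét, PB, _, _, e, he, P', _, _, hP'q, heP', hbij, hfin, huniq⟩ :=
    Algebra.exists_etale_isIdempotentElem_forall_liesOver_eq p q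
  let T := B' ⊗[B] A
  let C := Localization.Away e
  let ιT : T →+* C := algebraMap T C
  let ρA : A →+* C := ιT.comp (Algebra.TensorProduct.includeRight : A →ₐ[B] T).toRingHom
  let rRB' : R →+* B' := (algebraMap B B').comp MvPolynomial.C
  have hx' : (⟨P', inferInstance⟩ : PrimeSpectrum T) ∈ Set.range (PrimeSpectrum.comap ιT) := by
    rw [PrimeSpectrum.localization_away_comap_range C e]; exact heP'
  obtain ⟨x', hx'⟩ := hx'
  let xS : ↥(Spec (CommRingCat.of C)) := x'
  refine ⟨Spec (CommRingCat.of C), Spec (CommRingCat.of B'),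
    Spec.map (CommRingCat.ofHom ρA) ≫ U.isoSpec.inv,
    Spec.map (CommRingCat.ofHom (algebraMap B' C)),
    Spec.map (CommRingCat.ofHom rRB') ≫ V.isoSpec.inv, xS, ?_, ?_, ?_, ?_, ?_, ?_, ?_⟩
  · -- commutativity
    rw [Category.assoc, ← Scheme.isoSpec_inv_naturality, ← Category.assoc, ← Category.assoc,
      ← Spec.map_comp, ← Spec.map_comp]
    congr 2
    ext r
    show ρA (algebraMap R A r) = algebraMap B' C (rRB' r)
    rw [IsScalarTower.algebraMap_apply B' T C]
    show ιT ((1 : B') ⊗ₜ[B] (algebraMap R A r)) = ιT (algebraMap B' T (algebraMap B B' (MvPolynomial.C r)))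
    congr 1
    rw [Algebra.TensorProduct.algebraMap_apply, Algebra.algebraMap_self_apply, tmul_algebraMap_comm,
      IsScalarTower.algebraMap_apply R B A]
    rfl
  · -- étale
    have h1 : ρA.Etale := by
      refine RingHom.Etale.stableUnderComposition _ _ (includeRight_etale (B := B) (B' := B') (A := A)) ?_
      exact RingHom.etale_algebraMap.2 (Algebra.Etale.of_isLocalizationAway e)
    haveI : Etale (Spec.map (CommRingCat.ofHom ρA)) :=
      (HasRingHomProperty.Spec_iff (P := @Etale)).2 h1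
    infer_instance
  · -- the point
    have h1 : (Spec.map (CommRingCat.ofHom ρA)) xS = P := by
      show PrimeSpectrum.comap ρA x' = P
      have : PrimeSpectrum.comap ρA x' =
          PrimeSpectrum.comap (Algebra.TensorProduct.includeRight : A →ₐ[B] T).toRingHom
            (PrimeSpectrum.comap ιT x') := rfl
      rw [this, hx']
      exact PrimeSpectrum.ext hP'q
    show U.isoSpec.inv ((Spec.map (CommRingCat.ofHom ρA)) xS) = x₀
    rw [h1, hP]
    exact Scheme.hom_inv_apply U.isoSpec x₀
  · -- residue fields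
    have hmemPB : ∀ b'' : B', ιT (b'' ⊗ₜ[B] (1 : A)) ∈ x'.asIdeal ↔ b'' ∈ PB := by
      intro b''
      have h1 : ιT (b'' ⊗ₜ[B] (1 : A)) ∈ x'.asIdeal ↔
          (b'' ⊗ₜ[B] (1 : A) : T) ∈ (PrimeSpectrum.comap ιT x').asIdeal := Iff.rfl
      rw [h1, hx', Ideal.over_def P' PB]
      rfl
    have Hres : ∀ b' : B', ∃ b₁ b₂ : B,
        ιT (algebraMap B B' b₂ ⊗ₜ 1) ∉ x'.asIdeal ∧
        ιT ((algebraMap B B' b₂ * b' - algebraMap B B' b₁) ⊗ₜ 1) ∈ x'.asIdeal := by
      intro b'
      obtain ⟨w, hw⟩ := hbij.2 (algebraMap B' PB.ResidueField b')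
      obtain ⟨b₁, b₂, hb₂, rfl⟩ := exists_residueField_div p w
      have hcomm : ∀ b : B, (Ideal.ResidueField.mapₐ p PB (Algebra.ofId B B') (PB.over_def p))
          (algebraMap B p.ResidueField b) = algebraMap B' PB.ResidueField (algebraMap B B' b) := by
        intro b
        rw [AlgHom.commutes, IsScalarTower.algebraMap_apply B B' PB.ResidueField]
      rw [map_div₀, hcomm, hcomm] at hw
      have hb₂' : algebraMap B' PB.ResidueField (algebraMap B B' b₂) ≠ 0 := by
        rw [← hcomm, Ne, map_eq_zero, algebraMap_residueField_eq_zero_iff]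
        exact hb₂
      refine ⟨b₁, b₂, ?_, ?_⟩
      · rw [hmemPB, ← algebraMap_residueField_eq_zero_iff]
        exact hb₂'
      · rw [hmemPB, ← algebraMap_residueField_eq_zero_iff, map_sub, map_mul, ← hw,
          mul_div_cancel₀ _ hb₂', sub_self]
    have H : ∀ c : C, InG ρA x'.asIdeal c := fun c => inG_localization_tensor e C x'.asIdeal Hres c
    have hs1 := residueFieldMap_surjective_of_inG (CommRingCat.ofHom ρA) xS H
    rw [Scheme.residueFieldMap_comp]
    intro z
    obtain ⟨w, hw⟩ := hs1 z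
    obtain ⟨v, hv⟩ := (ConcreteCategory.bijective_of_isIso
      (U.isoSpec.inv.residueFieldMap ((Spec.map (CommRingCat.ofHom ρA)) xS))).2 w
    refine ⟨v, ?_⟩
    show (Scheme.Hom.residueFieldMap (Spec.map (CommRingCat.ofHom ρA)) xS).hom
      ((Scheme.Hom.residueFieldMap U.isoSpec.inv ((Spec.map (CommRingCat.ofHom ρA)) xS)).hom v) = z
    have hv' : (Scheme.Hom.residueFieldMap U.isoSpec.inv
        ((Spec.map (CommRingCat.ofHom ρA)) xS)).hom v = w := hv
    rw [hv']
    exact hw
  · -- finite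
    rw [IsFinite.SpecMap_iff]
    exact RingHom.finite_algebraMap.2 hfin
  · -- smooth
    have h1 : Spec.map (CommRingCat.ofHom rRB') = Spec.map (CommRingCat.ofHom (algebraMap B B')) ≫
        Spec.map (CommRingCat.ofHom (MvPolynomial.C : R →+* B)) := by
      rw [← Spec.map_comp]; rfl
    rw [h1, Category.assoc]
    haveI : Etale (Spec.map (CommRingCat.ofHom (algebraMap B B'))) :=
      (HasRingHomProperty.Spec_iff (P := @Etale)).2 (RingHom.etale_algebraMap.2 hét)
    haveI := smoothOfRelativeDimension_spec_mvPolynomial R n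
    have h2 : SmoothOfRelativeDimension (0 + (n + 0))
        (Spec.map (CommRingCat.ofHom (algebraMap B B')) ≫
          Spec.map (CommRingCat.ofHom (MvPolynomial.C : R →+* B)) ≫ V.isoSpec.inv) := inferInstance
    simpa using h2
  · -- uniqueness
    intro z hz
    have hz' : PrimeSpectrum.comap (algebraMap B' C) z = PrimeSpectrum.comap (algebraMap B' C) x' := hz
    let P'' : Ideal T := (PrimeSpectrum.comap ιT z).asIdeal
    haveI : P''.IsPrime := (PrimeSpectrum.comap ιT z).2
    have hunder : ∀ y : PrimeSpectrum C, ((PrimeSpectrum.comap ιT y).asIdeal).under B' =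
        (PrimeSpectrum.comap (algebraMap B' C) y).asIdeal := by
      intro y
      ext b
      simp only [Ideal.under_def, Ideal.mem_comap, PrimeSpectrum.comap_asIdeal]
      rw [IsScalarTower.algebraMap_apply B' T C]
    have hover : P''.LiesOver PB := ⟨by
      rw [hunder z, hz', ← hunder x', hx']
      exact Ideal.over_def P' PB⟩
    have heP'' : e ∉ P'' := by
      intro hmem
      have hu : IsUnit (ιT e) := IsLocalization.Away.algebraMap_isUnit e
      exact z.2.ne_top (Ideal.eq_top_of_isUnit_mem _ hmem hu)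
    have h3 := huniq P'' inferInstance hover heP''
    apply PrimeSpectrum.localization_comap_injective C (Submonoid.powers e)
    rw [hx']
    exact PrimeSpectrum.ext h3

end Groth.Agent.Lib.Helper18.Chev
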