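import Groth.Agent.Lib.Helper18.Chev.NoetherScaling
import Groth.Agent.Lib.Helper18.Chev.FibreSections
import Mathlib.AlgebraicGeometry.AffineSpace
import Mathlib.AlgebraicGeometry.Morphisms.Finite
import Mathlib.AlgebraicGeometry.Morphisms.FiniteType

set_option autoImplicit false
set_option linter.style.haveILetI false
universe u
open AlgebraicGeometry CategoryTheory CategoryTheory.Limits

namespace Groth.Agent.Lib.Helper18.Chev

/-- The ring map underlying `homOfVector q v` followed by the identification with `Spec K[T]`. -/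
theorem homOfVector_SpecIso_appTop {n : Type u} {K : CommRingCat.{u}} {Z : Scheme.{u}}
    (q : Z ⟶ Spec K) (v : n → Γ(Z, ⊤)) :
    (Scheme.ΓSpecIso (.of (MvPolynomial n K))).inv ≫
      (AffineSpace.homOfVector q v ≫ (AffineSpace.SpecIso n K).hom).appTop =
      CommRingCat.ofHom (MvPolynomial.eval₂Hom ((Scheme.ΓSpecIso K).inv ≫ q.appTop).hom v) := by
  rw [Scheme.Hom.comp_appTop, AffineSpace.SpecIso_hom_appTop, Category.assoc,
    Iso.inv_hom_id_assoc]
  ext1
  apply MvPolynomial.ringHom_ext
  · intro c
    simp only [CommRingCat.hom_comp, CommRingCat.hom_ofHom, RingHom.coe_comp,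
      Function.comp_apply, MvPolynomial.coe_eval₂Hom, MvPolynomial.eval₂_C]
    have := congr($(AffineSpace.homOfVector_over q v).appTop ((Scheme.ΓSpecIso K).inv c))
    rw [Scheme.Hom.comp_appTop] at this
    exact this
  · intro i
    simp only [CommRingCat.hom_comp, CommRingCat.hom_ofHom, RingHom.coe_comp,
      Function.comp_apply, MvPolynomial.coe_eval₂Hom, MvPolynomial.eval₂_X]
    exact AffineSpace.homOfVector_appTop_coord q v i

theorem topologicalKrullDim_eq_ringKrullDim_of_isAffine (Z : Scheme.{u}) [IsAffine Z] :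
    topologicalKrullDim Z = ringKrullDim Γ(Z, ⊤) := by
  rw [IsHomeomorph.topologicalKrullDim_eq _ Z.isoSpec.hom.homeomorph.isHomeomorph]
  exact PrimeSpectrum.topologicalKrullDim_eq_ringKrullDim _

set_option backward.isDefEq.respectTransparency.types false in
theorem isFinite_of_finite_appTop {X Y : Scheme.{u}} [IsAffine X] [IsAffine Y] (f : X ⟶ Y)
    (h : f.appTop.hom.Finite) : IsFinite f :=
  (HasAffineProperty.iff_of_isAffine (P := @IsFinite)).2 ⟨inferInstance, h⟩

end Groth.Agent.Lib.Helper18.Chev
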