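import Mathlib.RingTheory.NoetherNormalization
import Mathlib.RingTheory.KrullDimension.Polynomial
import Mathlib.RingTheory.KrullDimension.Field
import Groth.Agent.Lib.Helper29.IntegralDim

set_option autoImplicit false
set_option linter.style.haveILetI false
universe u
open MvPolynomial

namespace Groth.Agent.Lib.Helper18.Chev

/-- Noether normalisation with the parameters taken, up to nonzero scalars, in a prescribed set. -/
theorem exists_vec_finite_of_scaling {K R : Type u} [Field K] [CommRing R] [Nontrivial R]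
    [Algebra K R] [Algebra.FiniteType K R] (e : ℕ) (he : ringKrullDim R = e) (S : Set R)
    (hS : ∀ r : R, ∃ c : K, c ≠ 0 ∧ c • r ∈ S) :
    ∃ t : Fin e → R, (∀ i, t i ∈ S) ∧
      (MvPolynomial.aeval t : MvPolynomial (Fin e) K →ₐ[K] R).Finite := by
  obtain ⟨s, g, hinj, hfin⟩ := exists_finite_inj_algHom_of_fg K R
  have hs : s = e := by
    letI : Algebra (MvPolynomial (Fin s) K) R := g.toRingHom.toAlgebra
    haveI : Module.Finite (MvPolynomial (Fin s) K) R := hfin
    haveI : Algebra.IsIntegral (MvPolynomial (Fin s) K) R := Algebra.IsIntegral.of_finite _ _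
    have h1 := Groth.Agent.Lib.Helper29.ringKrullDim_eq_of_isIntegral_of_injective
      (A := MvPolynomial (Fin s) K) (A' := R) hinj
    rw [he, MvPolynomial.ringKrullDim_of_isNoetherianRing, ringKrullDim_eq_zero_of_field,
      zero_add, Nat.card_fin] at h1
    exact_mod_cast h1.symm
  subst hs
  choose c hc0 hcS using fun i : Fin s => hS (g (X i))
  refine ⟨fun i => c i • g (X i), hcS, ?_⟩
  let σ : MvPolynomial (Fin s) K →ₐ[K] MvPolynomial (Fin s) K :=
    MvPolynomial.aeval (fun i => C (c i) * X i)
  have hσ : Function.Surjective σ := by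
    rw [← AlgHom.range_eq_top, eq_top_iff, ← MvPolynomial.adjoin_range_X,
      Algebra.adjoin_le_iff]
    rintro _ ⟨i, rfl⟩
    refine ⟨C (c i)⁻¹ * X i, ?_⟩
    show σ (C (c i)⁻¹ * X i) = X i
    simp only [σ, map_mul, MvPolynomial.aeval_C, MvPolynomial.aeval_X,
      MvPolynomial.algebraMap_eq]
    rw [← mul_assoc, ← C_mul, inv_mul_cancel₀ (hc0 i), C_1, one_mul]
  have hcomp : (MvPolynomial.aeval (fun i => c i • g (X i)) :
      MvPolynomial (Fin s) K →ₐ[K] R) = g.comp σ := by
    apply MvPolynomial.algHom_ext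
    intro i
    simp [σ, Algebra.smul_def]
  rw [hcomp]
  exact AlgHom.Finite.comp hfin (AlgHom.Finite.of_surjective σ hσ)

end Groth.Agent.Lib.Helper18.Chev
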