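import Mathlib
import Groth.Agent.Lib.Helper18.Chev.AlgCore
import Groth.Agent.Lib.lead.ResTrdegBridge

/-!
# Prescribed preimage for the quasi-finite map from a polynomial ring (helper18)

Refinement of `exists_vec_quasiFiniteAt`: the first `t` coordinates are lifts of a transcendence
basis (algebraically independent modulo `P`), the last `h` coordinates lie in `P`; consequently the
preimage of `P` is `(p, x_{t+1}, …, x_{t+h})`.
-/

set_option autoImplicit false
set_option linter.style.haveILetI false
set_option linter.unusedVariables false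
universe u

namespace Groth.Agent.Lib.Helper18.Chev

section basis

variable {R A : Type u} [CommRing R] [CommRing A] [Algebra R A]

/-- Lifts of a transcendence basis of `A/P` over `R/p`, with algebraic independence recorded. -/
theorem exists_vec_algebraic' (P : Ideal A) [P.IsPrime] (p : Ideal R) [p.IsPrime] [P.LiesOver p]
    (e : ℕ) (he : Algebra.trdeg (R ⧸ p) (A ⧸ P) = e) :
    ∃ a : Fin e → A, AlgebraicIndependent (R ⧸ p) (fun i => Ideal.Quotient.mk P (a i)) ∧
      Algebra.IsAlgebraic
        (Algebra.adjoin (R ⧸ p) (Set.range fun i => Ideal.Quotient.mk P (a i))) (A ⧸ P) := by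
  obtain ⟨s, hs⟩ := exists_isTranscendenceBasis (R ⧸ p) (A ⧸ P)
  have hcard : Cardinal.mk s = e := by rw [hs.cardinalMk_eq_trdeg, he]
  have hfin : Finite s := by
    rw [← Cardinal.lt_aleph0_iff_finite, hcard]; exact Cardinal.nat_lt_aleph0 e
  letI := Fintype.ofFinite s
  have hcard' : Fintype.card s = e := by
    have : ((Fintype.card s : ℕ) : Cardinal) = e := by rw [← Cardinal.mk_fintype, hcard]
    exact_mod_cast this
  let eq : Fin e ≃ s := (Fintype.equivFinOfCardEq hcard').symm
  choose lift hlift using fun y : A ⧸ P => Ideal.Quotient.mk_surjective (I := P) y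
  refine ⟨fun i => lift (eq i).1, ?_, ?_⟩
  · have h1 : (fun i => Ideal.Quotient.mk P (lift (eq i).1)) = ((↑) : s → A ⧸ P) ∘ eq := by
      funext i
      simp [hlift]
    rw [h1]
    exact hs.1.comp eq eq.injective
  have hrange : (Set.range fun i => Ideal.Quotient.mk P (lift (eq i).1)) =
      Set.range ((↑) : s → A ⧸ P) := by
    ext y
    constructor
    · rintro ⟨i, rfl⟩
      exact ⟨eq i, (hlift _).symm⟩
    · rintro ⟨z, rfl⟩
      exact ⟨eq.symm z, by simp [hlift]⟩
  rw [hrange]
  exact hs.isAlgebraic

end basis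

section main

variable {R A : Type u} [CommRing R] [CommRing A] [Algebra R A] [Algebra.FiniteType R A]

/-- The quasi-finiteness part of `exists_vec_quasiFiniteAt`, for given vectors. -/
theorem quasiFiniteAt_of_vec (P : PrimeSpectrum A) (p : Ideal R) [p.IsPrime]
    [P.asIdeal.LiesOver p] {e r : ℕ} (a : Fin e → A)
    (halg : Algebra.IsAlgebraic
      (Algebra.adjoin (R ⧸ p) (Set.range fun i => Ideal.Quotient.mk P.asIdeal (a i)))
      (A ⧸ P.asIdeal))
    (b : Fin r → A) (hbP : ∀ j, b j ∈ P.asIdeal)
    (hb : ∀ P' : PrimeSpectrum A,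
      PrimeSpectrum.comap (algebraMap R A) P' = PrimeSpectrum.comap (algebraMap R A) P →
        P' ≤ P → (∀ j, b j ∈ P'.asIdeal) → P' = P)
    {n : Type*} (σ : Fin (e + r) ≃ n) :
    (MvPolynomial.aeval (Fin.append a b ∘ σ.symm) :
      MvPolynomial n R →ₐ[R] A).toRingHom.QuasiFiniteAt P.asIdeal := by
  set ψ : MvPolynomial n R →ₐ[R] A := MvPolynomial.aeval (Fin.append a b ∘ σ.symm) with hψ
  letI : Algebra (MvPolynomial n R) A := ψ.toRingHom.toAlgebra
  haveI : IsScalarTower R (MvPolynomial n R) A :=
    IsScalarTower.of_algebraMap_eq fun x => (ψ.commutes x).symm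
  haveI : Algebra.FiniteType (MvPolynomial n R) A :=
    Algebra.FiniteType.of_restrictScalars_finiteType R _ A
  show Algebra.QuasiFiniteAt (MvPolynomial n R) P.asIdeal
  apply quasiFiniteAt_of_isolated
  intro P' hP' hcomp
  have hmem : ∀ g : MvPolynomial n R, ψ g ∈ P'.asIdeal ↔ ψ g ∈ P.asIdeal := by
    intro g
    have := congrArg PrimeSpectrum.asIdeal hP'
    exact Ideal.ext_iff.1 this g
  rcases hcomp with hle | hle
  · apply hb P' ?_ hle
    · intro j
      have h1 : ψ (MvPolynomial.X (σ (Fin.natAdd e j))) = b j := by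
        rw [hψ, MvPolynomial.aeval_X, Function.comp_apply, Equiv.symm_apply_apply,
          Fin.append_right]
      rw [← h1, hmem, h1]
      exact hbP j
    · apply PrimeSpectrum.ext
      ext x
      have h1 : ψ (MvPolynomial.C x) = algebraMap R A x := by
        rw [hψ, MvPolynomial.aeval_C]
      show algebraMap R A x ∈ P'.asIdeal ↔ algebraMap R A x ∈ P.asIdeal
      rw [← h1]
      exact hmem _
  · apply PrimeSpectrum.ext
    apply eq_of_le_of_forall_aeval a P.asIdeal p halg P'.asIdeal hle
    intro g hg
    have h1 : ψ (MvPolynomial.rename (σ ∘ Fin.castAdd r) g) = MvPolynomial.aeval a g := by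
      rw [hψ, MvPolynomial.aeval_rename]
      congr 2
      ext i
      simp [Fin.append_left]
    rw [← h1] at hg ⊢
    exact (hmem _).1 hg

/-- Refined algebraic core: vectors `a` (algebraically independent modulo `P`) and `b` (in `P`)
with `R[T] → A`, `T ↦ (a, b)`, quasi-finite at `P`. -/
theorem exists_vecs_quasiFiniteAt (P : PrimeSpectrum A) (p : Ideal R) [p.IsPrime]
    [P.asIdeal.LiesOver p] (e r : ℕ) (he : Algebra.trdeg (R ⧸ p) (A ⧸ P.asIdeal) = e)
    (hr : Order.height (⟨P, rfl⟩ : PrimeSpectrum.comap (algebraMap R A) ⁻¹'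
      {PrimeSpectrum.comap (algebraMap R A) P}) = r) :
    ∃ (a : Fin e → A) (b : Fin r → A),
      AlgebraicIndependent (R ⧸ p) (fun i => Ideal.Quotient.mk P.asIdeal (a i)) ∧
      (∀ j, b j ∈ P.asIdeal) ∧
      (MvPolynomial.aeval (Fin.append a b) :
        MvPolynomial (Fin (e + r)) R →ₐ[R] A).toRingHom.QuasiFiniteAt P.asIdeal := by
  obtain ⟨a, hind, halg⟩ := exists_vec_algebraic' P.asIdeal p e he
  obtain ⟨b, hbP, hb⟩ := exists_vec_minimal (R := R) P r hr
  exact ⟨a, b, hind, hbP, quasiFiniteAt_of_vec P p a halg b hbP hb (Equiv.refl _)⟩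

end main

section preimage

variable {R A : Type u} [CommRing R] [CommRing A] [Algebra R A]

/-- Killing the last `h` variables and re-embedding differs from the identity by an element of
the ideal generated by the last `h` variables. -/
theorem sub_rename_aeval_mem (t h : ℕ) (F : MvPolynomial (Fin (t + h)) R) :
    F - MvPolynomial.rename (Fin.castAdd h)
        (MvPolynomial.aeval (Fin.append (fun i : Fin t => (MvPolynomial.X i : MvPolynomial (Fin t) R))
          (fun _ : Fin h => 0)) F) ∈
      Ideal.span (Set.range fun j : Fin h =>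
        (MvPolynomial.X (Fin.natAdd t j) : MvPolynomial (Fin (t + h)) R)) := by
  induction F using MvPolynomial.induction_on with
  | C x =>
    simp only [MvPolynomial.aeval_C, MvPolynomial.algebraMap_eq, MvPolynomial.rename_C, sub_self]
    exact Ideal.zero_mem _
  | add f g hf hg =>
    have : f + g - MvPolynomial.rename (Fin.castAdd h)
        (MvPolynomial.aeval (Fin.append (fun i : Fin t => (MvPolynomial.X i : MvPolynomial (Fin t) R))
          (fun _ : Fin h => 0)) (f + g)) =
        (f - MvPolynomial.rename (Fin.castAdd h)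
        (MvPolynomial.aeval (Fin.append (fun i : Fin t => (MvPolynomial.X i : MvPolynomial (Fin t) R))
          (fun _ : Fin h => 0)) f)) + (g - MvPolynomial.rename (Fin.castAdd h)
        (MvPolynomial.aeval (Fin.append (fun i : Fin t => (MvPolynomial.X i : MvPolynomial (Fin t) R))
          (fun _ : Fin h => 0)) g)) := by
      simp only [map_add]; ring
    rw [this]
    exact Ideal.add_mem _ hf hg
  | mul_X f i hf =>
    set θ : MvPolynomial (Fin (t + h)) R →ₐ[R] MvPolynomial (Fin (t + h)) R :=
      (MvPolynomial.rename (Fin.castAdd h)).comp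
        (MvPolynomial.aeval (Fin.append (fun i : Fin t => (MvPolynomial.X i : MvPolynomial (Fin t) R))
          (fun _ : Fin h => 0))) with hθ
    change f - θ f ∈ _ at hf
    change f * MvPolynomial.X i - θ (f * MvPolynomial.X i) ∈ _
    have : f * MvPolynomial.X i - θ (f * MvPolynomial.X i) =
        (f - θ f) * MvPolynomial.X i + θ f * (MvPolynomial.X i - θ (MvPolynomial.X i)) := by
      rw [map_mul]; ring
    rw [this]
    refine Ideal.add_mem _ (Ideal.mul_mem_right _ _ hf) (Ideal.mul_mem_left _ _ ?_)
    induction i using Fin.addCases with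
    | left i =>
      have : θ (MvPolynomial.X (Fin.castAdd h i)) = MvPolynomial.X (Fin.castAdd h i) := by
        simp [hθ, Fin.append_left]
      rw [this, sub_self]
      exact Ideal.zero_mem _
    | right j =>
      have : θ (MvPolynomial.X (Fin.natAdd t j)) = 0 := by
        simp [hθ, Fin.append_right]
      rw [this, sub_zero]
      exact Ideal.subset_span ⟨j, rfl⟩

/-- The preimage of `P` under `T ↦ (a, b)` with `a` algebraically independent modulo `P` and
`b ⊆ P` is `(p, T_{t+1}, …, T_{t+h})`. -/
theorem comap_aeval_append (P : Ideal A) [P.IsPrime] (p : Ideal R) [p.IsPrime] [P.LiesOver p]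
    {t h : ℕ} (a : Fin t → A) (b : Fin h → A)
    (ha : AlgebraicIndependent (R ⧸ p) (fun i => Ideal.Quotient.mk P (a i)))
    (hb : ∀ j, b j ∈ P) :
    P.comap (MvPolynomial.aeval (Fin.append a b) : MvPolynomial (Fin (t + h)) R →ₐ[R] A) =
      p.map (MvPolynomial.C : R →+* MvPolynomial (Fin (t + h)) R) ⊔
        Ideal.span (Set.range fun j : Fin h =>
          (MvPolynomial.X (Fin.natAdd t j) : MvPolynomial (Fin (t + h)) R)) := by
  have hge : p.map (MvPolynomial.C : R →+* MvPolynomial (Fin (t + h)) R) ⊔
        Ideal.span (Set.range fun j : Fin h =>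
          (MvPolynomial.X (Fin.natAdd t j) : MvPolynomial (Fin (t + h)) R)) ≤
      P.comap (MvPolynomial.aeval (Fin.append a b) : MvPolynomial (Fin (t + h)) R →ₐ[R] A) := by
    refine sup_le ?_ ?_
    · rw [Ideal.map_le_iff_le_comap]
      intro x hx
      rw [Ideal.mem_comap, Ideal.mem_comap]
      show MvPolynomial.aeval (Fin.append a b) (MvPolynomial.C x) ∈ P
      rw [MvPolynomial.aeval_C]
      rw [Ideal.over_def P p] at hx
      exact hx
    · rw [Ideal.span_le]
      rintro _ ⟨j, rfl⟩
      show MvPolynomial.aeval (Fin.append a b) (MvPolynomial.X (Fin.natAdd t j)) ∈ P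
      rw [MvPolynomial.aeval_X, Fin.append_right]
      exact hb j
  refine le_antisymm ?_ hge
  intro F hF
  set G : MvPolynomial (Fin t) R :=
    MvPolynomial.aeval (Fin.append (fun i : Fin t => (MvPolynomial.X i : MvPolynomial (Fin t) R))
          (fun _ : Fin h => 0)) F with hG
  have h1 := sub_rename_aeval_mem t h F
  rw [← hG] at h1
  have h1' : F - MvPolynomial.rename (Fin.castAdd h) G ∈
      P.comap (MvPolynomial.aeval (Fin.append a b) : MvPolynomial (Fin (t + h)) R →ₐ[R] A) :=
    hge (Ideal.mem_sup_right h1)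
  have h2 : MvPolynomial.rename (Fin.castAdd h) G ∈
      P.comap (MvPolynomial.aeval (Fin.append a b) : MvPolynomial (Fin (t + h)) R →ₐ[R] A) := by
    have := Ideal.sub_mem _ hF h1'
    rwa [sub_sub_cancel] at this
  have h3 : MvPolynomial.aeval a G ∈ P := by
    have h4 : MvPolynomial.aeval (Fin.append a b) (MvPolynomial.rename (Fin.castAdd h) G) =
        MvPolynomial.aeval a G := by
      rw [MvPolynomial.aeval_rename]
      congr 2
      ext i
      simp [Fin.append_left]
    rw [← h4]
    exact h2
  have h5 : MvPolynomial.map (Ideal.Quotient.mk p) G = 0 := by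
    apply (show Function.Injective (MvPolynomial.aeval (R := R ⧸ p) fun i => Ideal.Quotient.mk P (a i)) from ha)
    rw [map_zero, ← mk_aeval a P p G]
    exact Ideal.Quotient.eq_zero_iff_mem.2 h3
  have h6 : G ∈ p.map (MvPolynomial.C : R →+* MvPolynomial (Fin t) R) := by
    have : G ∈ RingHom.ker (MvPolynomial.map (σ := Fin t) (Ideal.Quotient.mk p)) := h5
    rw [MvPolynomial.ker_map, Ideal.mk_ker] at this
    exact this
  have h7 : MvPolynomial.rename (Fin.castAdd h) G ∈
      p.map (MvPolynomial.C : R →+* MvPolynomial (Fin (t + h)) R) := by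
    have hle : p.map (MvPolynomial.C : R →+* MvPolynomial (Fin t) R) ≤
        (p.map (MvPolynomial.C : R →+* MvPolynomial (Fin (t + h)) R)).comap
          (MvPolynomial.rename (Fin.castAdd h) :
            MvPolynomial (Fin t) R →ₐ[R] MvPolynomial (Fin (t + h)) R) := by
      rw [Ideal.map_le_iff_le_comap]
      intro x hx
      rw [Ideal.mem_comap, Ideal.mem_comap]
      show MvPolynomial.rename (Fin.castAdd h) (MvPolynomial.C x) ∈ _
      rw [MvPolynomial.rename_C]
      exact Ideal.mem_map_of_mem _ hx
    exact hle h6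
  have : F = (F - MvPolynomial.rename (Fin.castAdd h) G) + MvPolynomial.rename (Fin.castAdd h) G := by
    ring
  rw [this]
  exact Ideal.add_mem _ (Ideal.mem_sup_right h1) (Ideal.mem_sup_left h7)

end preimage

section resfield

/-- Residue transcendence degree via the quotient domains. -/
theorem trdeg_residueField_eq (R S : Type u) [CommRing R] [CommRing S] [Algebra R S]
    (p : Ideal R) [p.IsPrime] (q : Ideal S) [q.IsPrime] [q.LiesOver p]
    [Algebra (Localization.AtPrime p) (Localization.AtPrime q)]
    [Localization.AtPrime.IsLiesOverAlgebra p q] :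
    Algebra.trdeg p.ResidueField q.ResidueField = Algebra.trdeg (R ⧸ p) (S ⧸ q) := by
  have hfrac : ∀ {T : Type u} [CommRing T] (I : Ideal T) [I.IsPrime] (k : I.ResidueField),
      ∃ s t : T, algebraMap T I.ResidueField t ≠ 0 ∧
        k = algebraMap T I.ResidueField s / algebraMap T I.ResidueField t := by
    intro T _ I _ k
    obtain ⟨x, y, hy, rfl⟩ := IsFractionRing.div_surjective (A := T ⧸ I) k
    obtain ⟨x, rfl⟩ := Ideal.Quotient.mk_surjective x
    obtain ⟨y, rfl⟩ := Ideal.Quotient.mk_surjective y
    refine ⟨x, y, ?_, ?_⟩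
    · rw [IsScalarTower.algebraMap_apply T (T ⧸ I) I.ResidueField]
      exact (map_ne_zero_iff _ (IsFractionRing.injective (T ⧸ I) I.ResidueField)).2
        (nonZeroDivisors.ne_zero hy)
    · rw [IsScalarTower.algebraMap_apply T (T ⧸ I) I.ResidueField,
        IsScalarTower.algebraMap_apply T (T ⧸ I) I.ResidueField]
      rfl
  have hsq : (algebraMap p.ResidueField q.ResidueField).comp (algebraMap R p.ResidueField) =
      (algebraMap S q.ResidueField).comp (algebraMap R S) := by
    rw [← IsScalarTower.algebraMap_eq R p.ResidueField q.ResidueField,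
      ← IsScalarTower.algebraMap_eq R S q.ResidueField]
  have key := Groth.Agent.Lib.lead.ResTrdegBridge.trdeg_eq_of_square p q
    (algebraMap R p.ResidueField) (algebraMap S q.ResidueField)
    (algebraMap p.ResidueField q.ResidueField)
    (Ideal.ker_algebraMap_residueField p) (Ideal.ker_algebraMap_residueField q) hsq
    (hfrac p) (hfrac q)
  rw [← key]
  congr 1

end resfield

end Groth.Agent.Lib.Helper18.Chev
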